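import Cfsg.Agent.Lib.FusionSystem.ControlQd
import Cfsg.Agent.Lib.FusionSystem.ComponentExists
import Cfsg.Agent.Lib.FusionSystem.ComponentCore

/-!
# Constrained systems from non-trivial cores

A class of saturated systems closed under subsystems and factor systems, all of whose non-trivial members
have a non-trivial core, consists of constrained systems (components would be quasisimple members).
Owner: helper18.
-/

set_option autoImplicit false
set_option linter.style.haveILetI false
set_option linter.unusedSectionVars false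

namespace Cfsg.Agent.Lib.Stellmacher18

open Cfsg Cfsg.FusionSystem Cfsg.Agent.Lib Cfsg.Agent.Lib.FS Cfsg.Agent.Lib.FS.Control

universe u

/-- A subnormal subsystem is a subsystem. -/
theorem le_and_sub_of_subnormal {Ω : Type u} [Group Ω] {S T : Subgroup Ω} {C : FusionSystem T}
    {F : FusionSystem S} {p : ℕ} (h : C.IsSubnormalIn F p) : T ≤ S ∧ ∀ P, C.Hom P ⊆ F.Hom P := by
  induction h with
  | refl F p => exact ⟨le_rfl, fun _ => subset_rfl⟩
  | step _ hD ih => exact ⟨ih.1.trans hD.1.2.2.2.1.1, fun P φ hφ => hD.1.2.2.1 P (ih.2 P hφ)⟩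

/-- A constrained system over a non-trivial group has a non-trivial core. -/
theorem core_ne_bot_of_constrained {Ω : Type u} [Group Ω] {S : Subgroup Ω} [Finite S] {p : ℕ} [Fact p.Prime]
    {F : FusionSystem S} (hc : F.IsConstrained p) (hne : S ≠ ⊥) : F.core ≠ ⊥ := by
  intro h
  have hcen := FusionConstrained.Inherit.isCentric_core hc
  refine hne (le_bot_iff.1 fun x hx => ?_)
  have := hcen.2 _ (isConj_refl F hcen.1) (mem_centralizerIn.2 ⟨hx, fun y hy => by
    rw [h, Subgroup.mem_bot] at hy; rw [hy, one_mul, mul_one]⟩)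
  rwa [h] at this

theorem isConstrained_of_step {p : ℕ} [Fact p.Prime]
    (P : ∀ (Ω : Type u) [Group Ω] (S : Subgroup Ω), FusionSystem S → Prop)
    (hsubP : ∀ (Ω : Type u) [Group Ω] (S T : Subgroup Ω) (F : FusionSystem S) (E : FusionSystem T),
      T ≤ S → (∀ Q, E.Hom Q ⊆ F.Hom Q) → P Ω S F → P Ω T E)
    (hfacP : ∀ (Ω Ω' : Type u) [Group Ω] [Group Ω'] (S : Subgroup Ω) [Finite S] (S' : Subgroup Ω')
      (U : Subgroup Ω) (θ : S →* Ω') (F : FusionSystem S) (F' : FusionSystem S'),
      F.IsFactorSystem U θ F' → P Ω S F → P Ω' S' F')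
    (hstep : ∀ (Ω : Type u) [Group Ω] (S : Subgroup Ω) [Finite S] (F : FusionSystem S),
      IsPGroup p S → F.IsSaturated p → P Ω S F → S ≠ ⊥ →
      (∀ (T : Subgroup Ω) (E : FusionSystem T), T ≤ S → (∀ Q, E.Hom Q ⊆ F.Hom Q) → E.IsSaturated p →
        (Nat.card T < Nat.card S ∨ (T = S ∧ homCount E < homCount F)) → E.IsConstrained p) →
      F.core ≠ ⊥)
    {Ω : Type u} [Group Ω] {S : Subgroup Ω} [Finite S] (hS : IsPGroup p S) {F : FusionSystem S}
    (hF : F.IsSaturated p) (hP : P Ω S F) : F.IsConstrained p := by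
  suffices key : ∀ (n m : ℕ) {Ω : Type u} [Group Ω] {S : Subgroup Ω} [Finite S] (F : FusionSystem S),
      Nat.card S = n → homCount F = m → IsPGroup p S → F.IsSaturated p → P Ω S F → F.IsConstrained p from
    key _ _ F rfl rfl hS hF hP
  clear hS hF hP F
  intro n
  induction n using Nat.strong_induction_on with
  | _ n ihn =>
  intro m
  induction m using Nat.strong_induction_on with
  | _ m ihm =>
  intro Ω _ S _ F hn hm hS hF h3
  by_contra hnc
  have IH : ∀ (T : Subgroup Ω) (E : FusionSystem T), T ≤ S → (∀ Q, E.Hom Q ⊆ F.Hom Q) → E.IsSaturated p →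
      (Nat.card T < Nat.card S ∨ (T = S ∧ homCount E < homCount F)) → E.IsConstrained p := by
    intro T E hTS hsub hE hlt
    haveI := finite_sub hTS
    have hT := isPGroup_of_le hS hTS
    rcases hlt with hlt | ⟨rfl, hlt⟩
    · exact ihn _ (hn ▸ hlt) _ E rfl rfl hT hE (hsubP Ω S T F E hTS hsub h3)
    · exact ihm _ (hm ▸ hlt) E hn rfl hT hE (hsubP Ω T T F E hTS hsub h3)
  obtain ⟨T, C, hCsub, hq⟩ := ComponentExists.exists_component hS hF hnc
  obtain ⟨hTS, hsub⟩ := le_and_sub_of_subnormal hCsub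
  haveI := finite_sub hTS
  have hT := isPGroup_of_le hS hTS
  have hna := S5148.result p hT C hq
  have hcen : C.core ≤ Subgroup.centralizer (T : Set Ω) :=
    (core_le_center_of_quasisimple hT hq).trans (center_le_centralizer C)
  have hnT : ¬ T ≤ C.core := fun h => hna (IsMulCommutative.of_comm fun a b =>
    Subtype.ext (Subgroup.mem_centralizer_iff.1 (hcen (h b.2)) a a.2))
  have hnotc : ¬ C.IsConstrained p := by
    intro h
    have hc := FusionConstrained.Inherit.isCentric_core h
    refine hnT fun x hx => hc.2 _ (isConj_refl C hc.1) (mem_centralizerIn.2 ⟨hx, fun y hy => ?_⟩)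
    exact (Subgroup.mem_centralizer_iff.1 (hcen hy) x hx).symm
  have hTeq : T = S := by
    by_contra hne
    exact hnotc (IH T C hTS hsub hq.1 (Or.inl (lt_of_le_of_ne (Subgroup.card_le_of_le hTS) fun e =>
      hne (Subgroup.eq_of_le_of_card_ge hTS e.ge))))
  subst hTeq
  have heq : F = C := fusion_ext fun Q φ => ⟨fun hφ => by
    by_contra hφC
    exact hnotc (IH _ C le_rfl hsub hq.1 (Or.inr ⟨rfl, homCount_lt rfl hsub ⟨Q, φ, hφ, hφC⟩⟩)),
    fun h => hsub Q h⟩
  subst heq
  have hne : T ≠ ⊥ := fun e => hnT (le_of_eq_of_le e bot_le)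
  have hcore := hstep Ω T F hS hF h3 hne IH
  have hU := FusionAlperin.Join.isNormal_core F
  obtain ⟨Ω', _, θ, F', hθ, hker, hfin', hp', hsat', hfac, hlt'⟩ :=
    exists_factor hS hF (isNormal_stronglyClosed hU) hcore
  haveI := hfin'
  have hc' := ihn _ (hn ▸ hlt') _ F' rfl rfl hp' hsat' (hfacP Ω Ω' T ⊤ F.core θ F F' hfac h3)
  have hW := isNormal_preimage hS hF hU hθ hker hfac (FusionAlperin.Join.isNormal_core F')
    fun Q φ hφ => ⟨1, T.one_mem, fun x hx => by
      obtain ⟨ψ, -, h1, h2⟩ := (FusionAlperin.Join.isCentral_center F).2 Q φ hφ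
      rw [← h1 x, one_mul, inv_one, mul_one]
      exact (congrArg ψ (Subtype.ext rfl)).trans
        (h2 ⟨x, core_le_center_of_quasisimple hS hq hx⟩)⟩
  have hbot : F'.core = ⊥ := le_bot_iff.1 fun y hy => by
    obtain ⟨s, rfl⟩ := hθ y
    exact Subgroup.mem_bot.2 ((hker s).2 (le_core_of_isNormal hW ⟨s, hy, rfl⟩))
  refine hnT fun x hx => (hker ⟨x, hx⟩).1 ?_
  by_contra hne1
  refine core_ne_bot_of_constrained hc' (fun e => hne1 ?_) hbot
  exact Subgroup.mem_bot.1 (e ▸ Subgroup.mem_top _)

end Cfsg.Agent.Lib.Stellmacher18
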