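import Cfsg.Agent.Lib.GlaubermanTwo54.Main54

/-!
# Groups of characteristic 2 without `Sym(4)`: the local facts for the one-stage theorem

* `normal_of_thompson`: an E-property subgroup normalised by `S` and `N(J(S))` is normal.
* `exists_eprop_normal`: a non-trivial normal elementary abelian subgroup with the E-property.
* `exists_conj_split`: fusion in `S` is controlled by `C(Z(S))` after `N(J(S))`.

Owner: helper18.
-/

set_option autoImplicit false
set_option linter.style.haveILetI false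
set_option linter.unusedSectionVars false

namespace Cfsg.Agent.Lib.Stellmacher18

open GlaubermanTwo54 PLocal

universe u

theorem normal_of_thompson_aux : ∀ (n : ℕ) (G : Type u) [Group G] [Finite G], Nat.card G = n → Hyp G →
    ∀ (S : Sylow 2 G) (W : Subgroup G), Cfsg.IsElementaryAbelian 2 W → W ≤ (S : Subgroup G) →
      (S : Subgroup G) ≤ Subgroup.normalizer (W : Set G) → EProp W (S : Subgroup G) →
      Subgroup.normalizer (Cfsg.thompsonSubgroupOf 2 (S : Subgroup G) : Set G) ≤
        Subgroup.normalizer (W : Set G) → W.Normal := by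
  intro n
  induction n using Nat.strong_induction_on with
  | _ n ih =>
    intro G _ _ hn h S W hW hWS hSn hp hJn
    subst hn
    haveI : Fact (Nat.Prime 2) := ⟨Nat.prime_two⟩
    set J := Cfsg.thompsonSubgroupOf 2 (S : Subgroup G) with hJdef
    have hover : ∀ (U : Subgroup G), (S : Subgroup G) ≤ U → U ≠ ⊤ → Hyp ↥U →
        U ≤ Subgroup.normalizer (W : Set G) := by
      intro U hSU hU hhU
      set T : Sylow 2 U := S.subtype hSU with hTdef
      have hm : (T : Subgroup U).map U.subtype = (S : Subgroup G) := by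
        rw [hTdef, Sylow.coe_subtype, Subgroup.map_subgroupOf_eq_of_le hSU]
      have hWU : W ≤ U := hWS.trans hSU
      set W' := W.subgroupOf U with hW'
      have hmW : W'.map U.subtype = W := Subgroup.map_subgroupOf_eq_of_le hWU
      have hWT : W' ≤ (T : Subgroup U) := by
        rw [← Subgroup.map_le_map_iff_of_injective U.subtype_injective, hmW, hm]; exact hWS
      have hcm : ∀ u : U, (u : G) ∈ Subgroup.normalizer (W : Set G) →
          u ∈ Subgroup.normalizer (W' : Set U) := by
        intro u hu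
        rw [Subgroup.mem_normalizer_iff]
        intro v
        exact Subgroup.mem_normalizer_iff.1 hu (v : G)
      haveI hN : W'.Normal := ih _ (Cores.Subnormal.card_lt_of_ne_top hU) U rfl hhU T W'
        (PGroups.elemAb_subgroupOf hW U) hWT
        (fun u hu => hcm u (hSn (hm ▸ Subgroup.mem_map_of_mem U.subtype hu)))
        ((eprop_map_iff U.subtype U.subtype_injective W' (T : Subgroup U)).1 (by rw [hmW, hm]; exact hp))
        (fun u hu => hcm u (hJn (by
          rw [hJdef, ← hm, ← PGroups.map_thompsonSubgroupOf U.subtype U.subtype_injective]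
          exact Subgroup.le_normalizer_map U.subtype ⟨u, hu, rfl⟩)))
      exact (Subgroup.normal_subgroupOf_iff_le_normalizer hWU).1 hN
    by_cases hsplit : ∃ N : Subgroup G, N.Normal ∧ N ⊔ (S : Subgroup G) ≠ ⊤ ∧
        Subgroup.normalizer (((S : Subgroup G) ⊓ N : Subgroup G) : Set G) ≠ ⊤
    · obtain ⟨N, hN, hNS, hNM⟩ := hsplit
      haveI := hN
      set M := Subgroup.normalizer (((S : Subgroup G) ⊓ N : Subgroup G) : Set G) with hM
      have hSM : (S : Subgroup G) ≤ M := (le_inf Subgroup.le_normalizer (pCore_le_normalizer N _)).trans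
        Subgroup.inf_normalizer_le_normalizer_inf
      have h1 := hover M hSM hNM (h.normalizer_inf S N)
      have h2 := hover _ le_sup_right hNS (h.normal_sup S N)
      refine Subgroup.normalizer_eq_top_iff.1 (top_le_iff.1 fun g _ => ?_)
      have hg : g ∈ M ⊔ N := by rw [hM, normalizer_inf_sup_eq_top]; trivial
      exact (sup_le h1 ((le_sup_left : N ≤ _).trans h2)) hg
    push Not at hsplit
    have hD : Dichotomy S := by
      intro N hN
      haveI := hN
      by_cases hNS : N ⊔ (S : Subgroup G) = ⊤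
      · refine Or.inl (Transfer.PResidual.pResidual_le_of_isPGroup_quotient N ?_)
        refine S.2.of_surjective ((QuotientGroup.mk' N).comp (S : Subgroup G).subtype) fun q => ?_
        obtain ⟨w, rfl⟩ := QuotientGroup.mk'_surjective N q
        have hw : w ∈ N ⊔ (S : Subgroup G) := by rw [hNS]; trivial
        obtain ⟨a, ha, s, hs, rfl⟩ := Subgroup.mem_sup_of_normal_left.mp hw
        exact ⟨⟨s, hs⟩, by
          show QuotientGroup.mk' N s = _
          rw [map_mul, show QuotientGroup.mk' N a = 1 from (QuotientGroup.eq_one_iff a).2 ha, one_mul]⟩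
      · haveI : ((S : Subgroup G) ⊓ N).Normal := Subgroup.normalizer_eq_top_iff.1 (hsplit N hN hNS)
        exact Or.inr (Cores.le_pCore (S.2.to_le inf_le_left))
    by_cases hJQ : J ≤ Cfsg.pCore 2 G
    · refine Subgroup.normalizer_eq_top_iff.1 (top_le_iff.1 (le_trans ?_ hJn))
      rw [hJdef, ← PGroups.thompsonSubgroupOf_eq_of_le (Cores.pCore_le_sylow S) hJQ]
      refine le_trans ?_ (PGroups.normalizer_le_normalizer_thompson _)
      rw [Subgroup.normalizer_eq_top]
    exact normal_of_eprop h S hD hJQ hW hWS hSn hp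

/-- A subgroup with the E-property which is normalised by `S` and `N(J(S))` is normal. -/
theorem normal_of_thompson {G : Type u} [Group G] [Finite G] (h : Hyp G) (S : Sylow 2 G) {W : Subgroup G}
    (hW : Cfsg.IsElementaryAbelian 2 W) (hWS : W ≤ (S : Subgroup G))
    (hSn : (S : Subgroup G) ≤ Subgroup.normalizer (W : Set G)) (hp : EProp W (S : Subgroup G))
    (hJn : Subgroup.normalizer (Cfsg.thompsonSubgroupOf 2 (S : Subgroup G) : Set G) ≤
      Subgroup.normalizer (W : Set G)) : W.Normal :=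
  normal_of_thompson_aux _ G rfl h S W hW hWS hSn hp hJn

variable {G : Type u} [Group G] [Finite G]

/-- A non-trivial normal elementary abelian subgroup with the E-property. -/
theorem exists_eprop_normal (h : Hyp G) (S : Sylow 2 G) (hne : (S : Subgroup G) ≠ ⊥) :
    ∃ V : Subgroup G, V.Normal ∧ V ≠ ⊥ ∧ Cfsg.IsElementaryAbelian 2 V ∧ V ≤ Cfsg.pCore 2 G ∧
      EProp V ⊤ := by
  haveI : Fact (Nat.Prime 2) := ⟨Nat.prime_two⟩
  obtain ⟨V, hVn, hVel, hVQ, hp, hC⟩ := exists_module h S
  set Z := (S : Subgroup G) ⊓ Subgroup.centralizer ((S : Subgroup G) : Set G) with hZ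
  by_cases hV : V = ⊥
  swap
  · exact ⟨V, hVn, hV, hVel, hVQ, hp⟩
  have hcen : ∀ g : G, ∀ z ∈ Z, z * g = g * z := fun g z hz =>
    Subgroup.mem_centralizer_iff.1 (hC (Subgroup.mem_centralizer_iff.2 fun x hx => by
      rw [SetLike.mem_coe, hV, Subgroup.mem_bot] at hx
      rw [hx, one_mul, mul_one] : g ∈ Subgroup.centralizer (V : Set G))) z hz
  have hZne : Z ≠ ⊥ := by
    haveI : Nontrivial (S : Subgroup G) := (Subgroup.nontrivial_iff_ne_bot _).2 hne
    haveI := IsPGroup.center_nontrivial (p := 2) S.2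
    obtain ⟨z, hz⟩ := exists_ne (1 : Subgroup.center (S : Subgroup G))
    intro e
    have hzZ : ((z : (S : Subgroup G)) : G) ∈ Z := ⟨(z : (S : Subgroup G)).2,
      Subgroup.mem_centralizer_iff.2 fun x hx =>
        congrArg Subtype.val (Subgroup.mem_center_iff.1 z.2 ⟨x, hx⟩)⟩
    rw [e, Subgroup.mem_bot] at hzZ
    exact hz (Subtype.ext (Subtype.ext hzZ))
  have hZc : IsMulCommutative ↥Z := IsMulCommutative.of_comm fun a b => Subtype.ext (hcen b a a.2)
  haveI hZn : Z.Normal := ⟨fun z hz g => by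
    rw [← hcen g z hz, mul_inv_cancel_right]; exact hz⟩
  have hZp : IsPGroup 2 Z := S.2.to_le inf_le_left
  refine ⟨Cfsg.omegaOne 2 Z, PGroups.omegaOne_normal, PGroups.omegaOne_ne_bot hZp hZne,
    PGroups.elemAb_omegaOne hZc, (PGroups.omegaOne_le 2 Z).trans (Cores.le_pCore hZp),
    fun R _ _ _ hR => absurd (fun r _ => Subgroup.mem_centralizer_iff.2 fun x hx =>
      hcen r x (PGroups.omegaOne_le 2 Z hx)) hR⟩

/-- Fusion in `S` is a map of `N(J(S))` followed by a map of `C(Z(S))`. -/
theorem exists_conj_split (h : Hyp G) (S : Sylow 2 G) {P : Subgroup G} (hP : P ≤ (S : Subgroup G)) (g : G)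
    (hg : ∀ x ∈ P, g * x * g⁻¹ ∈ (S : Subgroup G)) :
    ∃ a b : G, g = b * a ∧ (∀ x ∈ P, a * x * a⁻¹ ∈ (S : Subgroup G)) ∧
      a ∈ Subgroup.normalizer (Cfsg.thompsonSubgroupOf 2 (S : Subgroup G) : Set G) ∧
      b ∈ Subgroup.centralizer
        (((S : Subgroup G) ⊓ Subgroup.centralizer ((S : Subgroup G) : Set G) : Subgroup G) : Set G) := by
  haveI : Fact (Nat.Prime 2) := ⟨Nat.prime_two⟩
  obtain ⟨V, hVn, hVel, hVQ, hp, hC⟩ := exists_module h S
  haveI := hVn
  have hVS : V ≤ (S : Subgroup G) := hVQ.trans (Cores.pCore_le_sylow S)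
  have hJ := thompson_le_centralizer hVel hVS (hp.mono le_top)
  set C := Subgroup.centralizer (V : Set G) with hCdef
  haveI hCn : C.Normal := Subgroup.normal_centralizer
  set N := Subgroup.normalizer (((S : Subgroup G) ⊓ C : Subgroup G) : Set G) with hN
  have hSN : (S : Subgroup G) ≤ N := (le_inf Subgroup.le_normalizer (pCore_le_normalizer C _)).trans
    Subgroup.inf_normalizer_le_normalizer_inf
  obtain ⟨c, hc, n, hn, rfl⟩ := GlaubermanTwo54.factor S C (X := (S : Subgroup G) ⊓ C) le_rfl g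
  set U := (C ⊔ (S : Subgroup G)) ⊓ N with hU
  have hSU : (S : Subgroup G) ≤ U := le_inf le_sup_right hSN
  set P₁ := P.map (MulAut.conj n).toMonoidHom with hP₁
  have hP₁U : P₁ ≤ U := by
    rintro _ ⟨x, hx, rfl⟩
    show n * x * n⁻¹ ∈ U
    set y := c * n * x * (c * n)⁻¹ with hy
    refine ⟨?_, N.mul_mem (N.mul_mem hn (hSN (hP hx))) (N.inv_mem hn)⟩
    have e : n * x * n⁻¹ = c⁻¹ * y * c := by rw [hy]; group
    rw [e]
    exact (C ⊔ (S : Subgroup G)).mul_mem ((C ⊔ (S : Subgroup G)).mul_mem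
      (Subgroup.mem_sup_left (C.inv_mem hc)) (Subgroup.mem_sup_right (hg x hx))) (Subgroup.mem_sup_left hc)
  set T : Sylow 2 U := S.subtype hSU with hT
  have hpP : IsPGroup 2 (P₁.subgroupOf U) :=
    ((S.2.to_le hP).map (MulAut.conj n).toMonoidHom).of_equiv (Subgroup.subgroupOfEquivOfLe hP₁U).symm
  obtain ⟨R, hR⟩ := hpP.exists_le_sylow
  obtain ⟨e, he⟩ := MulAction.exists_smul_eq U R T
  obtain ⟨d₀, hd₀, t, ht, hdt⟩ := Subgroup.mem_sup_of_normal_left.mp e.2.1
  set d := t⁻¹ * (e : G) with hd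
  have hdC : d ∈ C := by
    have e1 : d = t⁻¹ * d₀ * t⁻¹⁻¹ := by rw [hd, ← hdt]; group
    rw [e1]; exact hCn.conj_mem d₀ hd₀ t⁻¹
  have hdN : d ∈ N := N.mul_mem (N.inv_mem (hSN ht)) e.2.2
  refine ⟨d * n, c * d⁻¹, by group, fun x hx => ?_, ?_, hC (C.mul_mem hc (C.inv_mem hdC))⟩
  · have h1 : e * ⟨n * x * n⁻¹, hP₁U ⟨x, hx, rfl⟩⟩ * e⁻¹ ∈ (T : Subgroup U) := by
      rw [← he, Sylow.coe_subgroup_smul]
      exact Subgroup.smul_mem_pointwise_smul _ (MulAut.conj e) _
        (hR (Subgroup.mem_subgroupOf.2 (⟨x, hx, rfl⟩ : n * x * n⁻¹ ∈ P₁)))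
    rw [hT, Sylow.coe_subtype, Subgroup.mem_subgroupOf] at h1
    have e1 : d * n * x * (d * n)⁻¹ = t⁻¹ * ((e : G) * (n * x * n⁻¹) * (e : G)⁻¹) * t := by rw [hd]; group
    rw [e1]
    exact (S : Subgroup G).mul_mem ((S : Subgroup G).mul_mem ((S : Subgroup G).inv_mem ht) h1) ht
  · exact normalizer_inf_le_thompson hJ (N.mul_mem hdN hn)

end Cfsg.Agent.Lib.Stellmacher18
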