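import Cfsg.Agent.Lib.GlaubermanTwo54.Factor
import Cfsg.Agent.Lib.SThreeFree21.Statement
import Cfsg.Agent.Lib.FusionSystem.Factor
import Cfsg.Agent.Lib.FusionSystem.ModelUnique
import Cfsg.Agent.Lib.FusionAlperin.Join

/-!
# Fusion systems in which no automiser involves `Sym(3)`

Owner: helper18.
-/

set_option autoImplicit false
set_option linter.style.haveILetI false
set_option linter.unusedSectionVars false

namespace Cfsg.Agent.Lib.Stellmacher18

open Cfsg Cfsg.FusionSystem Cfsg.Agent.Lib Cfsg.Agent.Lib.FS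

universe u

variable {Ω : Type u} [Group Ω] {S : Subgroup Ω}

/-- No automiser involves `Sym(3)`. -/
def ThreeFree (F : FusionSystem S) : Prop :=
  ∀ U : Subgroup Ω, U ≤ S → ¬ Cfsg.Involves (Equiv.Perm (Fin 3)) ↥(F.autGroup U)

theorem ThreeFree.of_sub {T : Subgroup Ω} {F : FusionSystem S} {E : FusionSystem T} (hF : ThreeFree F)
    (hTS : T ≤ S) (hsub : ∀ P, E.Hom P ⊆ F.Hom P) : ThreeFree E := fun U hU h => by
  have hle : E.autGroup U ≤ F.autGroup U := Subgroup.closure_mono fun α hα => hsub U hα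
  exact hF U (hU.trans hTS) (Transfer.InvolvesS4.involves_of_injective (Subgroup.inclusion hle)
    (Subgroup.inclusion_injective hle) h)

theorem ThreeFree.of_factor [Finite S] {Ω' : Type u} [Group Ω'] {S' : Subgroup Ω'} {θ : S →* Ω'}
    {F : FusionSystem S} {F' : FusionSystem S'} {U₀ : Subgroup Ω} (hF : ThreeFree F)
    (hfac : F.IsFactorSystem U₀ θ F') : ThreeFree F' := by
  obtain ⟨-, -, hr, hmem⟩ := hfac
  intro U' hU' h
  set U := preimageAlong θ U' with hUdef
  have hUS : U ≤ S := preimageAlong_le θ U'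
  haveI := finite_sub hUS
  let π : U → U' := fun x => ⟨θ ⟨x, hUS x.2⟩, (mem_preimageAlong.1 x.2).2⟩
  have hπ : Function.Surjective π := fun y => by
    obtain ⟨s, hs⟩ := hr.ge (hU' y.2)
    exact ⟨⟨s, mem_preimageAlong.2 ⟨s.2, by rw [hs]; exact y.2⟩⟩, Subtype.ext hs⟩
  let R : Subgroup (↥(F.autGroup U) × ↥(F'.autGroup U')) :=
    { carrier := {q | ∀ x : U, π ((q.1 : MulAut U) x) = (q.2 : MulAut U') (π x)}
      one_mem' := fun x => rfl
      mul_mem' := fun {a b} ha hb x => by
        show π ((a.1 : MulAut U) ((b.1 : MulAut U) x)) = (a.2 : MulAut U') ((b.2 : MulAut U') (π x))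
        rw [ha, hb]
      inv_mem' := fun {a} ha x => by
        show π ((a.1 : MulAut U)⁻¹ x) = (a.2 : MulAut U')⁻¹ (π x)
        apply (a.2 : MulAut U').injective
        rw [MulAut.apply_inv_self, ← ha, MulAut.apply_inv_self] }
  refine hF U hUS (Transfer.InvolvesS4.involves_of_injective
    ((MonoidHom.fst _ _).comp R.subtype) ?_ (Transfer.InvolvesS4.involves_of_surjective
      ((MonoidHom.snd _ _).comp R.subtype) ?_ h))
  · rintro ⟨⟨a, b⟩, hab⟩ ⟨⟨a', b'⟩, hab'⟩ (e : a = a')
    subst e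
    refine Subtype.ext (Prod.ext rfl (Subtype.ext (MulEquiv.ext fun y => ?_)))
    obtain ⟨x, rfl⟩ := hπ y
    exact (hab x).symm.trans (hab' x)
  · intro β
    obtain ⟨-, φ, hφ, hind⟩ := (hmem U' _).1 ((mem_autGroup hU').1 β.2)
    have e : ∀ x : U, θ ⟨φ x, apply_mem hφ x⟩ = (((β : MulAut U') (π x) : U') : Ω') := fun x =>
      (inducedAlong_apply hind x _ _ _).symm
    have hm : ∀ x : U, φ x ∈ U := fun x =>
      mem_preimageAlong.2 ⟨apply_mem hφ x, by rw [e]; exact SetLike.coe_mem _⟩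
    have hrg := range_eq_of_mem hφ hm le_rfl
    exact ⟨⟨(⟨homEquiv hφ hrg, homEquiv_mem_autGroup hφ hrg⟩, β), fun x => Subtype.ext (e x)⟩, rfl⟩

set_option maxRecDepth 8000 in
/-- A normal 2-subgroup of `Sym(3)` is trivial. -/
theorem perm_three_eq_one {X : Subgroup (Equiv.Perm (Fin 3))} [X.Normal] (hX : IsPGroup 2 X)
    {x : Equiv.Perm (Fin 3)} (hx : x ∈ X) : x = 1 := by
  have h3 : ∀ z ∈ X, z ^ 3 = 1 → z = 1 := by
    intro z hz hz3
    obtain ⟨k, hk⟩ := hX ⟨z, hz⟩
    have hk' : z ^ 2 ^ k = 1 := congrArg Subtype.val hk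
    rw [← pow_one z, ← ((Nat.coprime_two_left.2 (by decide : Odd 3)).pow_left k)]
    exact pow_gcd_eq_one.2 ⟨hk', hz3⟩
  have key : ∀ a : Equiv.Perm (Fin 3), a ≠ 1 →
      a ^ 3 = 1 ∨ ∃ y, (y * a * y⁻¹ * a) ^ 3 = 1 ∧ y * a * y⁻¹ * a ≠ 1 := by decide
  by_contra hne
  rcases key x hne with h | ⟨y, h, h'⟩
  · exact hne (h3 x hx h)
  · exact h' (h3 _ (X.mul_mem ((inferInstance : X.Normal).conj_mem x hx y) hx) h)

/-- A group whose quotient by a 2-subgroup has no section `Sym(3)` has none. -/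
theorem not_involves_of_kernel {G H : Type*} [Group G] [Group H] (f : G →* H) (hk : IsPGroup 2 f.ker)
    (h : ¬ Cfsg.Involves (Equiv.Perm (Fin 3)) H) : ¬ Cfsg.Involves (Equiv.Perm (Fin 3)) G := by
  intro hi
  obtain ⟨K, φ, hφ⟩ := Transfer.InvolvesS4.exists_hom_of_involves hi
  set f' : K →* H := f.comp K.subtype with hf'
  have hk' : IsPGroup 2 f'.ker := hk.of_injective
    (((K.subtype).comp f'.ker.subtype).codRestrict f.ker fun x => x.2)
    fun a b e => Subtype.ext (Subtype.ext (congrArg Subtype.val e :))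
  haveI : (f'.ker.map φ).Normal := Subgroup.Normal.map inferInstance φ hφ
  have hle : f'.ker ≤ φ.ker := fun x hx =>
    perm_three_eq_one (hk'.map φ) (Subgroup.mem_map_of_mem φ hx)
  refine h (Transfer.InvolvesS4.involves_of_hom f'.range
    ((QuotientGroup.lift f'.ker φ hle).comp (QuotientGroup.quotientKerEquivRange f').symm.toMonoidHom) ?_)
  exact ((QuotientGroup.lift_surjective_of_surjective f'.ker φ hφ hle)).comp
    (QuotientGroup.quotientKerEquivRange f').symm.surjective

/-- The model of a system without `Sym(3)` in its automisers does not involve `Sym(3)`. -/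
theorem not_involves_model [Finite S] (hS : IsPGroup 2 S) {F : FusionSystem S} (hF : ThreeFree F)
    {G : Type u} [Group G] {ι : S →* G} (hM : F.IsModel 2 G ι) :
    ¬ Cfsg.Involves (Equiv.Perm (Fin 3)) G := by
  haveI : Fact (Nat.Prime 2) := ⟨Nat.prime_two⟩
  haveI := hM.1
  have hO := model_pCore_eq hM
  have hQS : F.core ≤ S := core_le_base F
  set Q := F.core with hQ
  set j : Q →* G := ι.comp (Subgroup.inclusion hQS) with hj
  have hji : Function.Injective j := hM.2.1.1.comp (Subgroup.inclusion_injective hQS)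
  have hjr : j.range = pCore 2 G := by
    rw [hO]
    ext y
    constructor
    · rintro ⟨x, rfl⟩
      exact ⟨Subgroup.inclusion hQS x, x.2, rfl⟩
    · rintro ⟨s, hs, rfl⟩
      exact ⟨⟨s, hs⟩, rfl⟩
  let e : Q ≃* ↥(pCore 2 G) := (MonoidHom.ofInjective hji).trans (MulEquiv.subgroupCongr hjr)
  let act : G →* MulAut ↥Q := (MulAut.congr e.symm).toMonoidHom.comp MulAut.conjNormal
  have hact : ∀ (g : G) (x : Q), j (act g x) = g * j x * g⁻¹ := fun g x => by
    show ((e (e.symm (MulAut.conjNormal g (e x))) : ↥(pCore 2 G)) : G) = _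
    rw [MulEquiv.apply_symm_apply, MulAut.conjNormal_apply]
    rfl
  have hin : ∀ g, act g ∈ F.autGroup Q := fun g => by
    rw [mem_autGroup hQS]
    exact (hM.2.1.2 Q hQS _ fun x => hQS (act g x).2).2 ⟨g, hact g⟩
  refine not_involves_of_kernel (act.codRestrict (F.autGroup Q) hin) ?_ (hF Q hQS)
  refine IsPGroup.to_le (Cores.pCore_isPGroup (G := G) 2) fun g hg => hM.2.2.2 ?_
  refine Subgroup.mem_centralizer_iff.2 fun y hy => ?_
  obtain ⟨x, rfl⟩ := hjr.ge hy
  have h1 : act g x = x := by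
    have h0 : act g = 1 := congrArg Subtype.val hg
    rw [h0]; rfl
  have h2 := hact g x
  rw [h1] at h2
  exact (mul_inv_eq_iff_eq_mul.1 h2.symm).symm

/-- The model satisfies the hypotheses of the local theory. -/
theorem hyp_of_model [Finite S] (hK : SThreeFree21.SThreeFreeSimple.{u}) (hS : IsPGroup 2 S)
    {F : FusionSystem S} (hF : ThreeFree F) {G : Type u} [Group G] {ι : S →* G}
    (hM : F.IsModel 2 G ι) : GlaubermanTwo54.Hyp G := by
  have h3 := not_involves_model hS hF hM
  haveI := hM.1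
  refine ⟨hM.2.2.2, GlaubermanTwo54.four_free_of_three_free h3, fun H _ N _ hs hna => Or.inl ?_⟩
  refine hK (H ⧸ N) hs ?_ fun h => h3 (Transfer.InvolvesS4.involves_of_injective H.subtype
    H.subtype_injective (Transfer.InvolvesS4.involves_of_surjective (QuotientGroup.mk' N)
      (QuotientGroup.mk'_surjective N) h))
  by_contra hc
  push Not at hc
  exact hna (IsMulCommutative.of_comm hc)

end Cfsg.Agent.Lib.Stellmacher18
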