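import Cfsg.Agent.Lib.Stellmacher18.Local
import Cfsg.Agent.Lib.Stellmacher18.ThreeFree
import Cfsg.Agent.Lib.FusionSystem.ControlQd
import Cfsg.Agent.Lib.Stellmacher18.Constrained
import Cfsg.Agent.Lib.PLocal.StableClosure

/-!
# A saturated 2-fusion system whose automisers do not involve `Sym(3)` is constrained

Modulo `SThreeFreeSimple` (the simple groups without a section `Sym(3)`).
Owner: helper18.
-/

set_option autoImplicit false
set_option linter.style.haveILetI false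
set_option linter.unusedSectionVars false

namespace Cfsg.Agent.Lib.Stellmacher18

open Cfsg Cfsg.FusionSystem Cfsg.Agent.Lib Cfsg.Agent.Lib.FS Cfsg.Agent.Lib.FS.Control GlaubermanTwo54

universe u

variable {Ω : Type u} [Group Ω] {S : Subgroup Ω}

/-- `J` of a group, as a functor. -/
def jFun (Q : Type u) [Group Q] : Subgroup Q := Cfsg.thompsonSubgroup 2 Q

theorem jFun_ne_bot (Q : Type u) [Group Q] [Finite Q] (hQ : IsPGroup 2 Q) (hn : Nontrivial Q) :
    jFun Q ≠ ⊥ := by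
  haveI : Fact (Nat.Prime 2) := ⟨Nat.prime_two⟩
  obtain ⟨n, hn0, hc⟩ := hQ.nontrivial_iff_card.1 hn
  exact PLocal.thompsonSubgroup_ne_bot (hc ▸ dvd_pow_self 2 (by omega))

theorem jFun_map (Q R : Type u) [Group Q] [Group R] [Finite Q] (_ : IsPGroup 2 Q) (φ : Q ≃* R) :
    (jFun Q).map φ.toMonoidHom = jFun R := by
  haveI : Fact (Nat.Prime 2) := ⟨Nat.prime_two⟩
  haveI : Finite R := Finite.of_equiv Q φ.toEquiv
  exact PLocal.thompsonSubgroup_map_equiv φ

theorem map_jOf {R : Subgroup Ω} {G : Type u} [Group G] {ι : R →* G} (hι : Function.Injective ι) :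
    ((wOf jFun R).subgroupOf R).map ι = Cfsg.thompsonSubgroupOf 2 ι.range := by
  haveI : Fact (Nat.Prime 2) := ⟨Nat.prime_two⟩
  rw [wOf, Subgroup.subgroupOf, Subgroup.comap_map_eq_self_of_injective R.subtype_injective]
  show (Cfsg.thompsonSubgroup 2 ↥R).map ι = _
  rw [PLocal.map_thompsonSubgroup ι hι]

/-- Conjugation by an element normalising `W` gives a map of the normaliser system of `W`. -/
theorem mem_normalizerHom_of_model [Finite S] {F : FusionSystem S} {R : Subgroup Ω} [Finite R]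
    {E : FusionSystem R} (hRS : R ≤ S) (hsub : ∀ P, E.Hom P ⊆ F.Hom P) {G : Type u} [Group G] {ι : R →* G}
    (h : E.IsRealizedBy ι) {W : Subgroup Ω} (hWR : W ≤ R) (hRW : R ≤ Subgroup.normalizer (W : Set Ω))
    {P : Subgroup Ω} {φ : P →* Ω} (hφ : φ ∈ E.Hom P) (g : G)
    (hg : ∀ x : P, ι ⟨φ x, apply_mem hφ x⟩ = g * ι ⟨x, src_le hφ x.2⟩ * g⁻¹)
    (hgW : g ∈ Subgroup.normalizer (((W.subgroupOf R).map ι : Subgroup G) : Set G)) :
    φ ∈ F.normalizerHom W P := by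
  haveI : Finite W := finite_sub (S := R) hWR
  have hB : P ⊔ W ≤ R := sup_le (src_le hφ) hWR
  have hgw : ∀ w : R, (w : Ω) ∈ W → ∃ v : R, (v : Ω) ∈ W ∧ ι v = g * ι w * g⁻¹ := fun w hw => by
    obtain ⟨v, hv, hve⟩ := (Subgroup.mem_normalizer_iff.1 hgW _).1
      (Subgroup.mem_map_of_mem ι (Subgroup.mem_subgroupOf.2 hw) : ι w ∈ _)
    exact ⟨v, Subgroup.mem_subgroupOf.1 hv, hve⟩
  have hval : ∀ b : ↥(P ⊔ W), g * ι ⟨b, hB b.2⟩ * g⁻¹ ∈ ι.range := by
    rintro ⟨b, hb⟩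
    have hle : P ⊔ W ≤ (ι.range.comap ((MulAut.conj g).toMonoidHom.comp ι)).map R.subtype := by
      refine sup_le (fun x hx => ⟨⟨x, src_le hφ hx⟩, ⟨_, hg ⟨x, hx⟩⟩, rfl⟩) fun w hw => ?_
      obtain ⟨v, -, hv⟩ := hgw ⟨w, hWR hw⟩ hw
      exact ⟨⟨w, hWR hw⟩, ⟨v, hv⟩, rfl⟩
    obtain ⟨w, hw, hwb⟩ := hle hb
    rwa [show (⟨b, hB hb⟩ : R) = w from Subtype.ext hwb.symm]
  obtain ⟨ψ, hψ, eψ⟩ := exists_map_of_conj h hB g hval
  have hm : ∀ x : P, φ x ∈ Subgroup.normalizer (W : Set Ω) := fun x => hRW (apply_mem hφ x)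
  refine ⟨hsub P hφ, le_inf ((src_le hφ).trans hRS) ((src_le hφ).trans hRW),
    fun x => ⟨hRS (apply_mem hφ x), hm x⟩, ψ, hsub _ hψ, fun x => ?_,
    map_subgroupOf_eq_of_mapsTo hψ le_sup_right fun b hb => ?_⟩
  · exact congrArg Subtype.val
      (h.1 ((eψ (Subgroup.inclusion le_sup_left x) (apply_mem hψ _)).trans (hg x).symm) :)
  · obtain ⟨v, hv, hve⟩ := hgw ⟨b, hB b.2⟩ hb
    rwa [show ψ b = (v : Ω) from congrArg Subtype.val (h.1 ((eψ b (apply_mem hψ b)).trans hve.symm) :)]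

/-- Maps of `N_F(W)` map `W` into `W`. -/
theorem normalizerHom_mapsTo {F : FusionSystem S} {W P : Subgroup Ω} {φ : P →* Ω}
    (hφ : φ ∈ F.normalizerHom W P) (x : P) (hx : (x : Ω) ∈ W) : φ x ∈ W := by
  obtain ⟨-, -, -, ψ, -, he, hm⟩ := hφ
  rw [← he]
  exact hm.le ⟨_, Subgroup.mem_subgroupOf.2 hx, rfl⟩

/-- If all proper subsystems are constrained, some non-trivial subgroup is normal. -/
theorem core_ne_bot [Finite S] (hK : SThreeFree21.SThreeFreeSimple.{u}) (hS : IsPGroup 2 S)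
    {F : FusionSystem S} (hF : F.IsSaturated 2) (h3 : ThreeFree F) (hne : S ≠ ⊥)
    (IH : ∀ (T : Subgroup Ω) (E : FusionSystem T), T ≤ S → (∀ P, E.Hom P ⊆ F.Hom P) → E.IsSaturated 2 →
      (Nat.card T < Nat.card S ∨ (T = S ∧ homCount E < homCount F)) → E.IsConstrained 2) :
    F.core ≠ ⊥ := by
  haveI : Fact (Nat.Prime 2) := ⟨Nat.prime_two⟩
  intro hcore
  have hnn : ∀ H : Subgroup Ω, H ≠ ⊥ → ¬ F.IsNormal H := fun H hH h =>
    hH (le_bot_iff.1 (hcore ▸ le_core_of_isNormal h))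
  -- models of the normaliser systems
  have hmodel : ∀ (H : Subgroup Ω), F.IsFullyNormalized H →
      (Nat.card (normalizerIn S H) < Nat.card S ∨ ¬ F.IsNormal H) →
      ∀ E : FusionSystem (normalizerIn S H), F.IsNormalizerSystem H E →
        ∃ (G : Type u) (_ : Group G) (ι : normalizerIn S H →* G), E.IsModel 2 G ι ∧ Hyp G := by
    intro H hH hlt E hE
    have hsub : ∀ P, E.Hom P ⊆ F.Hom P := fun P φ h => ((hE P).le h).1
    haveI : Finite (normalizerIn S H) := finite_sub (normalizerIn_le H)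
    have hp := isPGroup_of_le hS (normalizerIn_le (S := S) H)
    obtain ⟨G, hG, ι, hM⟩ := FusionAlperin.Model.exists_model_of_constrained hp
      (IH _ E (normalizerIn_le H) hsub (normalizerSystem_isSaturated hS hF hH hE)
        (normalizerSystem_lt hH.1 hE hlt))
    exact ⟨G, hG, ι, hM, hyp_of_model hK hp (h3.of_sub (normalizerIn_le H) hsub) hM⟩
  -- `J = J(S)`
  set J := wOf jFun S with hJdef
  have hJS : J ≤ S := wOf_le S
  have hJne : J ≠ ⊥ := wOf_ne_bot jFun_ne_bot hS hne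
  have hJn : S ≤ Subgroup.normalizer (J : Set Ω) := le_normalizer_wOf jFun_map hS
  have hRJ : normalizerIn S J = S := inf_eq_left.2 hJn
  obtain ⟨EJ, hEJ⟩ := exists_normalizerSystem F hJS
  haveI : Finite (normalizerIn S J) := finite_sub (normalizerIn_le J)
  obtain ⟨Y, _, ι, hMY, hhY⟩ := hmodel J (isFullyNormalized_of_le_normalizer hJS hJn)
    (Or.inr (hnn J hJne)) EJ hEJ
  haveI := hMY.1
  obtain ⟨TY, hTY⟩ := hMY.2.2.1
  have hιi := hMY.2.1.1
  have hTYne : (TY : Subgroup Y) ≠ ⊥ := by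
    rw [hTY, Ne, MonoidHom.range_eq_bot_iff]
    intro e
    refine hne (le_bot_iff.1 fun s hs => Subgroup.mem_bot.2 ?_)
    exact congrArg Subtype.val (hιi (show ι ⟨s, hRJ.ge hs⟩ = ι 1 by rw [e]; rfl))
  obtain ⟨V, hVn, hVne, hVel, hVQ, hVp⟩ := exists_eprop_normal hhY TY hTYne
  have hVr : V ≤ ι.range := hTY ▸ hVQ.trans (Cores.pCore_le_sylow TY)
  set W₀ := V.comap ι with hW₀
  have hW₀m : W₀.map ι = V := Subgroup.map_comap_eq_self hVr
  set W := W₀.map (normalizerIn S J).subtype with hWdef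
  have hWR : W ≤ normalizerIn S J := Subgroup.map_subtype_le _
  have hWS : W ≤ S := hWR.trans (normalizerIn_le J)
  haveI : Finite W := finite_sub hWS
  have hW₀el : Cfsg.IsElementaryAbelian 2 W₀ := PGroups.elemAb_comap ι hιi hVel
  have hWel : Cfsg.IsElementaryAbelian 2 W := PGroups.elemAb_map _ hW₀el
  have hWp : EProp W S := by
    have h1 : EProp W₀ ⊤ := by
      refine (eprop_map_iff ι hιi W₀ ⊤).1 ?_
      rw [hW₀m]; exact hVp.mono le_top
    have h2 := (eprop_map_iff (normalizerIn S J).subtype (Subgroup.subtype_injective _) W₀ ⊤).2 h1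
    rw [← MonoidHom.range_eq_map, Subgroup.range_subtype, ← hWdef] at h2
    rwa [hRJ] at h2
  have hWne : W ≠ ⊥ := by
    intro e
    have h0 : W₀ = ⊥ := (Subgroup.map_eq_bot_iff_of_injective _ (Subgroup.subtype_injective _)).1 e
    exact hVne (by rw [← hW₀m, h0, Subgroup.map_bot])
  have hWsub : W.subgroupOf (normalizerIn S J) = W₀ :=
    Subgroup.comap_map_eq_self_of_injective (Subgroup.subtype_injective _) W₀
  have hWn : S ≤ Subgroup.normalizer (W : Set Ω) := fun s hs => by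
    refine mem_normalizer_of_conj_mem ?_
    rintro _ ⟨w, hw, rfl⟩
    refine ⟨⟨s, hRJ.ge hs⟩ * w * (⟨s, hRJ.ge hs⟩ : normalizerIn S J)⁻¹, ?_, rfl⟩
    show ι _ ∈ V
    rw [map_mul, map_mul, map_inv]
    exact hVn.conj_mem _ hw _
  -- the class of maps
  obtain ⟨N₀, hN₀⟩ := exists_normalizerSystem F hWS
  let M : ∀ P : Subgroup Ω, (P →* Ω) → Prop := fun P φ => φ ∈ N₀.Hom P
  have hM : IsMapClass F M := isMapClass_hom
  refine hnn W hWne (isNormal_of_all hWS fun P φ hφ => (hN₀ P).le ((?_ : AllMaps F M) P φ hφ))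
  have hNJ : NormMaps F J M := by
    intro P φ hφ
    have hφE : φ ∈ EJ.Hom P := (hEJ P).ge hφ
    obtain ⟨g, hg⟩ := (hMY.2.1.2 P (src_le hφE) φ (apply_mem hφE)).1 hφE
    refine (hN₀ P).ge (mem_normalizerHom_of_model (normalizerIn_le J) (fun Q ψ h => ((hEJ Q).le h).1)
      hMY.2.1 hWR ((normalizerIn_le J).trans hWn) hφE g hg ?_)
    rw [hWsub, hW₀m, Subgroup.normalizer_eq_top]; trivial
  -- `Z = Z(S)`
  set Z := centralizerIn S S with hZdef
  have hZS : Z ≤ S := centralizerIn_le S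
  have hZc : ∀ s ∈ S, ∀ z ∈ Z, s * z = z * s := fun s hs z hz => (mem_centralizerIn.1 hz).2 s hs
  have hZn : S ≤ Subgroup.normalizer (Z : Set Ω) := fun s hs => by
    haveI := finite_sub hZS
    exact mem_normalizer_of_conj_mem fun z hz => by rw [hZc s hs z hz, mul_inv_cancel_right]; exact hz
  have hZne : Z ≠ ⊥ := by
    haveI : Nontrivial S := (Subgroup.nontrivial_iff_ne_bot _).2 hne
    haveI := IsPGroup.center_nontrivial (p := 2) hS
    obtain ⟨z, hz⟩ := exists_ne (1 : Subgroup.center S)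
    intro e
    have hzZ : ((z : S) : Ω) ∈ Z := mem_centralizerIn.2 ⟨(z : S).2, fun x hx =>
      congrArg Subtype.val (Subgroup.mem_center_iff.1 z.2 ⟨x, hx⟩)⟩
    rw [e, Subgroup.mem_bot] at hzZ
    exact hz (Subtype.ext (Subtype.ext hzZ))
  have hNZ : NormMaps F Z M := by
    obtain ⟨EZ, hEZ⟩ := exists_normalizerSystem F hZS
    have hsubZ : ∀ P, EZ.Hom P ⊆ F.Hom P := fun Q ψ h => ((hEZ Q).le h).1
    haveI : Finite (normalizerIn S Z) := finite_sub (normalizerIn_le Z)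
    obtain ⟨X, _, κ, hMX, hhX⟩ := hmodel Z (isFullyNormalized_of_le_normalizer hZS hZn)
      (Or.inr (hnn Z hZne)) EZ hEZ
    haveI := hMX.1
    obtain ⟨TX, hTX⟩ := hMX.2.2.1
    have hκi := hMX.2.1.1
    have hRZ : normalizerIn S Z = S := inf_eq_left.2 hZn
    set W' := (W.subgroupOf (normalizerIn S Z)).map κ with hW'
    have hWR' : W ≤ normalizerIn S Z := hRZ.symm ▸ hWS
    have hJR' : J ≤ normalizerIn S Z := hRZ.symm ▸ hJS
    have hmapW : (W.subgroupOf (normalizerIn S Z)).map (normalizerIn S Z).subtype = W :=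
      Subgroup.map_subgroupOf_eq_of_le hWR'
    have hW'el : Cfsg.IsElementaryAbelian 2 W' :=
      PGroups.elemAb_map κ (PGroups.elemAb_subgroupOf hWel _)
    have hW'T : W' ≤ (TX : Subgroup X) := hTX.symm ▸ Subgroup.map_le_range _ _
    have hW'n : (TX : Subgroup X) ≤ Subgroup.normalizer (W' : Set X) := by
      rw [hTX]
      rintro _ ⟨s, rfl⟩
      refine Subgroup.le_normalizer_map κ ⟨s, ?_, rfl⟩
      rw [SetLike.mem_coe, Subgroup.mem_normalizer_iff]
      intro v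
      exact Subgroup.mem_normalizer_iff.1 (hWn (normalizerIn_le Z s.2)) (v : Ω)
    have hW'p : EProp W' (TX : Subgroup X) := by
      rw [hTX, MonoidHom.range_eq_map]
      refine (eprop_map_iff κ hκi _ ⊤).2 ((eprop_map_iff (normalizerIn S Z).subtype
        (Subgroup.subtype_injective _) _ ⊤).1 ?_)
      rw [← MonoidHom.range_eq_map, Subgroup.range_subtype, hmapW, hRZ]
      exact hWp
    have hW'Q := le_pCore_of_eprop hhX TX hW'el hW'T hW'n hW'p
    haveI hW'normal : W'.Normal := by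
      refine normal_of_thompson hhX TX hW'el hW'T hW'n hW'p fun n hn => ?_
      rw [hTX, ← map_jOf hκi] at hn
      have hJeq : wOf jFun (normalizerIn S Z) = J := by rw [hRZ]
      rw [hJeq] at hn
      have hB : J ⊔ W ≤ normalizerIn S Z := sup_le hJR' hWR'
      have hval : ∀ b : ↥(J ⊔ W), n * κ ⟨b, hB b.2⟩ * n⁻¹ ∈ κ.range := by
        rintro ⟨b, hb⟩
        have hle : J ⊔ W ≤
            (κ.range.comap ((MulAut.conj n).toMonoidHom.comp κ)).map (normalizerIn S Z).subtype := by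
          refine sup_le (fun x hx => ⟨⟨x, hJR' hx⟩, ?_, rfl⟩) fun x hx => ⟨⟨x, hWR' hx⟩, ?_, rfl⟩
          · exact Subgroup.map_le_range _ _ ((Subgroup.mem_normalizer_iff.1 hn _).1
              (Subgroup.mem_map_of_mem κ (Subgroup.mem_subgroupOf.2 hx) : κ ⟨x, hJR' hx⟩ ∈ _))
          · exact model_pCore_le_range hMX ((inferInstance : (pCore 2 X).Normal).conj_mem _
              (hW'Q ⟨⟨x, hWR' hx⟩, Subgroup.mem_subgroupOf.2 hx, rfl⟩) n)
        obtain ⟨w, hw, hwb⟩ := hle hb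
        rwa [show (⟨b, hB hb⟩ : normalizerIn S Z) = w from Subtype.ext hwb.symm]
      obtain ⟨ψ, hψ, eψ⟩ := exists_map_of_conj hMX.2.1 hB n hval
      have hψM : M _ ψ := hNJ _ ψ (mem_normalizerHom_of_model (normalizerIn_le Z) hsubZ hMX.2.1 hJR'
        ((normalizerIn_le Z).trans hJn) hψ n (fun x => eψ x _) hn)
      refine mem_normalizer_of_conj_mem ?_
      rintro _ ⟨w, hw, rfl⟩
      have hwW : (w : Ω) ∈ W := Subgroup.mem_subgroupOf.1 hw
      have h1 := normalizerHom_mapsTo ((hN₀ _).le hψM) ⟨w, Subgroup.mem_sup_right hwW⟩ hwW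
      refine ⟨⟨_, hWR' h1⟩, Subgroup.mem_subgroupOf.2 h1, ?_⟩
      exact eψ ⟨w, Subgroup.mem_sup_right hwW⟩ _
    intro P φ hφ
    have hφE : φ ∈ EZ.Hom P := (hEZ P).ge hφ
    obtain ⟨g, hg⟩ := (hMX.2.1.2 P (src_le hφE) φ (apply_mem hφE)).1 hφE
    refine (hN₀ P).ge (mem_normalizerHom_of_model (normalizerIn_le Z) hsubZ hMX.2.1 hWR'
      ((normalizerIn_le Z).trans hWn) hφE g hg ?_)
    rw [Subgroup.normalizer_eq_top]; trivial
  -- all maps
  refine maps_of_core_eq_bot hS hF jFun_ne_bot jFun_map hM hcore hNJ fun H hH E hE hlt hNE => ?_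
  obtain ⟨L, _, ι', hML, hhL⟩ := hmodel H hH hlt E hE
  haveI := hML.1
  have hRS : (normalizerIn S H) ≤ S := normalizerIn_le H
  haveI : Finite (normalizerIn S H) := finite_sub hRS
  have hsub : ∀ P, E.Hom P ⊆ F.Hom P := fun P φ h => ((hE P).le h).1
  obtain ⟨TL, hTL⟩ := hML.2.2.1
  have hi := hML.2.1.1
  have hZR : Z ≤ (normalizerIn S H) := le_inf hZS fun z hz => Subgroup.centralizer_le_normalizer _
    (Subgroup.mem_centralizer_iff.2 fun h hh => hZc h (hH.1 hh) z hz)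
  intro P φ hφ
  have hφE : φ ∈ E.Hom P := hφ
  have hPR : P ≤ (normalizerIn S H) := src_le hφ
  obtain ⟨g, hg⟩ := (hML.2.1.2 P hPR φ (apply_mem hφ)).1 hφ
  set P' := (P.subgroupOf (normalizerIn S H)).map ι' with hP'
  have hmemP : ∀ x : P, ι' ⟨x, hPR x.2⟩ ∈ P' := fun x =>
    Subgroup.mem_map_of_mem ι' (Subgroup.mem_subgroupOf.2 x.2)
  obtain ⟨a, b, hgab, ha, haJ, hbZ⟩ := exists_conj_split hhL TL (P := P')
    (hTL.symm ▸ Subgroup.map_le_range _ _) g (by
      rintro _ ⟨x, hx, rfl⟩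
      rw [hTL]
      exact ⟨_, hg ⟨x, Subgroup.mem_subgroupOf.1 hx⟩⟩)
  obtain ⟨χ, hχ, eχ⟩ := exists_map_of_conj hML.2.1 hPR a fun x => hTL.le (ha _ (hmemP x))
  have hJR : wOf jFun (normalizerIn S H) ≤ (normalizerIn S H) := wOf_le (normalizerIn S H)
  have hχM : M P χ := hNE P χ (mem_normalizerHom_of_model le_rfl (fun _ => subset_rfl) hML.2.1 hJR
    (le_normalizer_wOf jFun_map (isPGroup_of_le hS hRS)) hχ a (fun x => eχ x _)
    (by rw [map_jOf hi, ← hTL]; exact haJ))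
  have hP₁ : χ.range ≤ (normalizerIn S H) := range_le_base hχ
  have hval : ∀ y : χ.range, b * ι' ⟨y, hP₁ y.2⟩ * b⁻¹ ∈ ι'.range := by
    rintro ⟨_, x, rfl⟩
    refine ⟨⟨φ x, apply_mem hφ x⟩, ?_⟩
    rw [hg, eχ, hgab]; group
  obtain ⟨ζ, hζ, eζ⟩ := exists_map_of_conj hML.2.1 hP₁ b hval
  have hbN : b ∈ Subgroup.normalizer (((Z.subgroupOf (normalizerIn S H)).map ι' : Subgroup L) : Set L) := by
    refine Subgroup.centralizer_le_normalizer _ (Subgroup.centralizer_le ?_ hbZ)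
    rintro _ ⟨z, hz, rfl⟩
    refine ⟨hTL.ge ⟨z, rfl⟩, Subgroup.mem_centralizer_iff.2 fun y hy => ?_⟩
    obtain ⟨s, rfl⟩ := hTL.le hy
    rw [← map_mul, ← map_mul]
    exact congrArg ι' (Subtype.ext (hZc s (hRS s.2) z (Subgroup.mem_subgroupOf.1 hz)))
  have hζM : M _ ζ := hNZ _ ζ (mem_normalizerHom_of_model hRS hsub hML.2.1 hZR (hRS.trans hZn) hζ b
    (fun x => eζ x _) hbN)
  refine hM.comp P _ χ ζ φ (hsub _ hχ) (hsub _ hζ) (fun x => ⟨x, rfl⟩) (fun x => ?_) hχM hζM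
  refine congrArg Subtype.val (hi ?_ :
    (⟨φ x, apply_mem hφE x⟩ : (normalizerIn S H)) = ⟨ζ ⟨χ x, ⟨x, rfl⟩⟩, apply_mem hζ _⟩)
  rw [eζ, hg, eχ, hgab]; group

/-- A saturated 2-fusion system whose automisers do not involve `Sym(3)` is constrained. -/
theorem isConstrained [Finite S] (hK : SThreeFree21.SThreeFreeSimple.{u}) (hS : IsPGroup 2 S)
    {F : FusionSystem S} (hF : F.IsSaturated 2) (h3 : ThreeFree F) : F.IsConstrained 2 :=
  haveI : Fact (Nat.Prime 2) := ⟨Nat.prime_two⟩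
  isConstrained_of_step (fun _ _ _ G => ThreeFree G)
    (fun _ _ _ _ _ _ hTS hsub h => h.of_sub hTS hsub)
    (fun _ _ _ _ _ _ _ _ _ _ _ hfac h => h.of_factor hfac)
    (fun _ _ _ _ _ hS' hF' h hne IH => core_ne_bot hK hS' hF' h hne IH)
    hS hF h3

end Cfsg.Agent.Lib.Stellmacher18
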