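import Cfsg.Agent.Lib.Stellmacher18.Local
import Cfsg.Agent.Lib.Stellmacher18.ThreeFree
import Cfsg.Agent.Lib.GlaubermanTwo54.Strong54
import Cfsg.Agent.Lib.ConjFunctor.KControl
import Cfsg.Agent.Lib.ConjFunctor.QdFusion
import Cfsg.Agent.Lib.PLocal.StableClosure
import Cfsg.Agent.S2759
import Cfsg.Agent.S2761
import Cfsg.Agent.S2795

/-!
# The statements S1999 and S2000 modulo `SThreeFreeSimple`

In a group without a section `Sym(4)` the pair `{Z, J}` controls strong fusion.
Owner: helper18.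
-/

set_option autoImplicit false
set_option linter.style.haveILetI false
set_option linter.unusedSectionVars false

namespace Cfsg.Agent.Lib.Stellmacher18

open Cfsg Cfsg.Agent.Lib GlaubermanTwo54
open Cfsg.Agent.Lib.ConjFunctor.Reach
open Cfsg.Agent.Lib.ConjFunctor.Local
open Cfsg.Agent.Lib.ConjFunctor.Section

universe u

variable {G : Type u} [Group G]

/-- `Z(Q)` as a functor. -/
def wCen : ∀ (Q : Type u) [Group Q], Subgroup Q := fun Q _ => Subgroup.center Q

/-- The pair `{Z, J}`. -/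
def wPair : Set (∀ (Q : Type u) [Group Q], Subgroup Q) := {wCen, wJ}

theorem inducedFunctor_wCen (P : Subgroup G) :
    Cfsg.inducedFunctor wCen P = P ⊓ Subgroup.centralizer (P : Set G) := by
  show (Subgroup.center ↥P).map P.subtype = _
  ext x
  constructor
  · rintro ⟨z, hz, rfl⟩
    exact ⟨z.2, Subgroup.mem_centralizer_iff.2 fun y hy =>
      congrArg Subtype.val (Subgroup.mem_center_iff.1 hz ⟨y, hy⟩)⟩
  · rintro ⟨hx, hc⟩
    exact ⟨⟨x, hx⟩, Subgroup.mem_center_iff.2 fun y =>
      Subtype.ext (Subgroup.mem_centralizer_iff.1 hc y y.2), rfl⟩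

theorem isCharPFunctor_wPair : ∀ W ∈ (wPair : Set (∀ (Q : Type u) [Group Q], Subgroup Q)),
    Cfsg.IsCharPFunctor.{u} 2 W := by
  haveI : Fact (Nat.Prime 2) := ⟨Nat.prime_two⟩
  rintro W (rfl | rfl)
  · constructor
    · intro Q _ _ hQ hne
      haveI := hne
      exact (Subgroup.nontrivial_iff_ne_bot _).1 hQ.center_nontrivial
    · intro Q R _ _ _ _ φ
      ext y
      constructor
      · rintro ⟨x, hx, rfl⟩
        refine Subgroup.mem_center_iff.2 fun z => ?_
        obtain ⟨w, rfl⟩ := φ.surjective z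
        show φ w * φ x = φ x * φ w
        rw [← map_mul, ← map_mul, Subgroup.mem_center_iff.1 hx w]
      · intro hy
        obtain ⟨x, rfl⟩ := φ.surjective y
        refine ⟨x, Subgroup.mem_center_iff.2 fun w => φ.injective ?_, rfl⟩
        rw [map_mul, map_mul, Subgroup.mem_center_iff.1 hy (φ w)]
  · exact isCharPFunctor_wSet wJ (Or.inr rfl)

theorem indSet_wPair : indSet wPair G =
    ({fun P : Subgroup G => P ⊓ Subgroup.centralizer (P : Set G),
      fun P : Subgroup G => Cfsg.thompsonSubgroupOf 2 P} : Set (Subgroup G → Subgroup G)) := by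
  rw [indSet, wPair, Set.image_pair]
  simp only [funext (inducedFunctor_wCen (G := G)), funext (inducedFunctor_wJ (G := G))]

variable [Finite G]

/-- A constrained group without `Sym(4)` has no section `Sym(3)`, so satisfies the local hypotheses. -/
theorem hyp_of_free (hK : SThreeFree21.SThreeFreeSimple.{u})
    (hfree : ¬ Cfsg.Involves (Equiv.Perm (Fin 4)) G)
    (hc : Subgroup.centralizer (Cfsg.pCore 2 G : Set G) ≤ Cfsg.pCore 2 G) : Hyp G := by
  haveI : Fact (Nat.Prime 2) := ⟨Nat.prime_two⟩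
  set T := Cfsg.pCore 2 G with hT
  have h3 : ¬ Cfsg.Involves (Equiv.Perm (Fin 3)) G := by
    intro h
    refine hfree ((Cfsg.Agent.S2759.result).2 ⟨T, Cores.pCore_isPGroup 2, ?_⟩)
    set N := Subgroup.normalizer (T : Set G) with hN
    have hN' : ∀ g : G, g ∈ N := fun g => by rw [hN, Subgroup.normalizer_eq_top]; trivial
    let f : G →* ↥N ⧸ (Subgroup.centralizer (T : Set G)).subgroupOf N :=
      (QuotientGroup.mk' _).comp ((MonoidHom.id G).codRestrict N hN')
    have hker : IsPGroup 2 f.ker := by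
      refine (Cores.pCore_isPGroup (G := G) 2).to_le fun g hg => hc ?_
      exact Subgroup.mem_subgroupOf.1 ((QuotientGroup.eq_one_iff _).1 hg)
    by_contra hq
    exact not_involves_of_kernel f hker hq h
  refine ⟨hc, hfree, fun H _ N _ hs hna => Or.inl ?_⟩
  refine hK (H ⧸ N) hs ?_ fun h => h3 (Transfer.InvolvesS4.involves_of_injective H.subtype
    H.subtype_injective (Transfer.InvolvesS4.involves_of_surjective (QuotientGroup.mk' N)
      (QuotientGroup.mk'_surjective N) h))
  by_contra hcc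
  push Not at hcc
  exact hna (IsMulCommutative.of_comm hcc)

/-- `{Z, J}` controls strong fusion in a group of characteristic 2 without `Sym(4)`. -/
theorem sf_pair_of_hyp (h : Hyp G) : SF wPair 2 G := by
  haveI : Fact (Nat.Prime 2) := ⟨Nat.prime_two⟩
  intro T A x _ hA hxA
  have hP : Subgroup.closure A ≤ (T : Subgroup G) := (Subgroup.closure_le _).2 hA
  obtain ⟨a, b, hab, ha, haJ, hbZ⟩ := exists_conj_split h T hP x fun y hy => by
    have hle : Subgroup.closure A ≤ (T : Subgroup G).comap (MulAut.conj x).toMonoidHom :=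
      (Subgroup.closure_le _).2 fun z hz => hxA (mem_cimg hz)
    exact hle hy
  subst hab
  have h1 : cimg a A ⊆ (T : Subgroup G) := by
    rintro _ ⟨y, hy, rfl⟩; exact ha y (Subgroup.subset_closure hy)
  refine (Chain.single ?_ hA h1).comp (Chain.single (x := b) ?_ h1 (by rw [← cimg_mul]; exact hxA))
  · refine mem_stepSet_nFam.2 ⟨_, ⟨wJ, Or.inr rfl, rfl⟩, trivial, ?_⟩
    simp only [inducedFunctor_wJ]; exact haJ
  · refine mem_stepSet_nFam.2 ⟨_, ⟨wCen, Or.inl rfl, rfl⟩, trivial, ?_⟩
    simp only [inducedFunctor_wCen]; exact Subgroup.centralizer_le_normalizer _ hbZ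

/-- `{Z, J}` controls strong fusion in every section of a group without `Sym(4)`. -/
theorem sf_pair (hK : SThreeFree21.SThreeFreeSimple.{u})
    (hfree : ¬ Cfsg.Involves (Equiv.Perm (Fin 4)) G) (X : Type u) [Group X] [Finite X]
    (hX : IsSection X G) : SF wPair 2 X := by
  haveI : Fact (Nat.Prime 2) := ⟨Nat.prime_two⟩
  exact ConjFunctor.Main.sf_of_loc isCharPFunctor_wPair (fun K R _ hc =>
    sf_pair_of_hyp (hyp_of_free hK (free_quotient hfree K _) hc)) X hX

/-- Statement S1999 from the classification of simple groups without a section `Sym(3)`. -/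
theorem row1999 (hK : SThreeFree21.SThreeFreeSimple.{u}) :
    ¬ Cfsg.Involves (Equiv.Perm (Fin 4)) G ↔
      ∀ (K R : Subgroup G) [hR : (R.subgroupOf K).Normal], Cfsg.FamilyControlsStrongFusionIn 2
        ({fun P : Subgroup (↥K ⧸ R.subgroupOf K) => P ⊓ Subgroup.centralizer
            ((P : Subgroup (↥K ⧸ R.subgroupOf K)) : Set (↥K ⧸ R.subgroupOf K)),
          fun P : Subgroup (↥K ⧸ R.subgroupOf K) => Cfsg.thompsonSubgroupOf 2 P} :
            Set (Subgroup (↥K ⧸ R.subgroupOf K) → Subgroup (↥K ⧸ R.subgroupOf K))) ⊤ := by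
  haveI : Fact (Nat.Prime 2) := ⟨Nat.prime_two⟩
  constructor
  · intro h K R hR
    rw [← indSet_wPair]
    exact (sf_iff isCharPFunctor_wPair).1 (sf_pair hK h _ (isSection_quot K R))
  · rintro h ⟨K, R, hR, ⟨e⟩⟩
    obtain ⟨q⟩ := Cfsg.Agent.S2761.result
    refine ConjFunctor.QdFusion.not_sf (e.trans q.symm) isCharPFunctor_wPair
      ((sf_iff isCharPFunctor_wPair).2 ?_)
    rw [indSet_wPair]
    exact h K R

/-- Statement S2000 from the classification of simple groups without a section `Sym(3)`. -/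
theorem row2000 (hK : SThreeFree21.SThreeFreeSimple.{u}) {p : ℕ} [Fact p.Prime] :
    ¬ Cfsg.Involves ↥(Cfsg.qd p) G ↔
      ∃ 𝓦 : Set (∀ (Q : Type u) [Group Q], Subgroup Q), (∀ W ∈ 𝓦, Cfsg.IsCharPFunctor.{u} p W) ∧
        ∀ (K R : Subgroup G) [hR : (R.subgroupOf K).Normal], Cfsg.FamilyControlsStrongFusionIn p
          ((fun W => Cfsg.inducedFunctor (G := (↥K ⧸ R.subgroupOf K)) W) '' 𝓦) ⊤ := by
  constructor
  · intro h
    rcases eq_or_ne p 2 with rfl | hp
    · refine ⟨wPair, isCharPFunctor_wPair, fun K R hR =>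
        (sf_iff isCharPFunctor_wPair).1 (sf_pair hK (fun h4 => h ?_) _ (isSection_quot K R))⟩
      obtain ⟨q⟩ := Cfsg.Agent.S2761.result
      obtain ⟨K, φ, hφ⟩ := Transfer.InvolvesS4.exists_hom_of_involves h4
      exact Transfer.InvolvesS4.involves_of_hom K (q.symm.toMonoidHom.comp φ) (q.symm.surjective.comp hφ)
    · have hW : ∀ W ∈ ({@Cfsg.kInfLower.{u}} : Set (∀ (Q : Type u) [Group Q], Subgroup Q)),
          Cfsg.IsCharPFunctor.{u} p W := by
        rintro W rfl; exact ConjFunctor.KFunctor.isCharP_lower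
      exact ⟨_, hW, fun K R hR => (sf_iff hW).1 (ConjFunctor.KControl.sf_kInf (p := p)
        (W := @Cfsg.kInfLower.{u}) (Or.inl rfl) ((Cfsg.Agent.S2795.result hp).1 h) _ (isSection_quot K R))⟩
  · rintro ⟨𝓦, h𝓦, h⟩ ⟨K, R, hR, ⟨e⟩⟩
    exact ConjFunctor.QdFusion.not_sf e h𝓦 ((sf_iff h𝓦).2 (h K R))

end Cfsg.Agent.Lib.Stellmacher18
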