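import Cfsg.Agent.Lib.Stellmacher18.Main

/-!
# The statement S5109 modulo `SThreeFreeSimple`

Owner: helper18.
-/

set_option autoImplicit false

namespace Cfsg.Agent.Lib.Stellmacher18

open Cfsg

universe u

/-- Statement S5109 from the classification of simple groups without a section `Sym(3)`. -/
theorem row5109 (hK : SThreeFree21.SThreeFreeSimple.{u}) {Ω : Type u} [Group Ω] {S : Subgroup Ω}
    [Finite S] (hS : IsPGroup 2 S) (F : Cfsg.FusionSystem S) (hF : F.IsSaturated 2)
    (h3 : ∀ U : Subgroup Ω, U ≤ S → ¬ Cfsg.Involves (Equiv.Perm (Fin 3)) ↥(F.autGroup U)) :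
    F.IsConstrained 2 :=
  isConstrained hK hS hF h3

end Cfsg.Agent.Lib.Stellmacher18
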