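import Cfsg.Agent.Lib.Stellmacher18.ThreeFree
import Cfsg.Agent.Lib.FusionSystem.SectionFree
import Cfsg.Agent.Lib.FusionP3.Free.Factor
import Cfsg.Agent.S2759

/-!
# `Sym(4)`-free systems have no `Sym(3)` in their automisers

Owner: helper18.
-/

set_option autoImplicit false
set_option linter.style.haveILetI false
set_option linter.unusedSectionVars false

namespace Cfsg.Agent.Lib.Stellmacher18

open Cfsg Cfsg.FusionSystem Cfsg.Agent.Lib Cfsg.Agent.Lib.FS
open Cfsg.Agent.Lib.Transfer (InvolvesS4.involves_of_injective InvolvesS4.involves_of_surjective)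

universe u

variable {Ω : Type u} [Group Ω] {S : Subgroup Ω} [Finite S] {F : FusionSystem S}

/-- Conjugate subgroups have automisers involving the same groups. -/
theorem involves_autGroup_of_isConj {X : Type*} [Group X] {U R : Subgroup Ω} (h : F.IsConj U R)
    (hi : Cfsg.Involves X ↥(F.autGroup U)) : Cfsg.Involves X ↥(F.autGroup R) := by
  obtain ⟨φ, hφ, hr⟩ := h
  have hUS := src_le hφ
  have hRS : R ≤ S := hr ▸ range_le_base hφ
  haveI := finite_sub hUS
  haveI := finite_sub hRS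
  let e : U ≃* R := homEquiv hφ hr
  have hsymm : ∃ ψ ∈ F.Hom R, ∀ y : R, ψ y = e.symm y := by
    obtain ⟨ψ, hψ, -, hl, -⟩ := exists_inv hφ hr
    refine ⟨ψ, hψ, fun y => ?_⟩
    obtain ⟨x, rfl⟩ := e.surjective y
    rw [e.symm_apply_apply]
    exact hl x (hr.le ⟨x, rfl⟩)
  have hmem : ∀ a ∈ F.autGroup U, MulAut.congr e a ∈ F.autGroup R := by
    intro a ha
    obtain ⟨ψ, hψ, hψe⟩ := hsymm
    obtain ⟨α, hα, -, hαe⟩ := exists_hom_of_aut hUS ha
    obtain ⟨χ, hχ, hχe⟩ := exists_comp hψ hα (fun y => by rw [hψe]; exact SetLike.coe_mem _)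
    obtain ⟨ω, hω, hωe⟩ := exists_comp hχ hφ (fun y => by rw [hχe, hαe]; exact SetLike.coe_mem _)
    refine (mem_autGroup hRS).2 (hom_congr hω fun y => ?_)
    show ((e (a (e.symm y)) : R) : Ω) = _
    rw [hωe]
    refine (homEquiv_coe hφ hr _).trans (congrArg φ (Subtype.ext ?_))
    show ((a (e.symm y) : U) : Ω) = χ y
    rw [hχe y, hαe]
    exact congrArg (fun z : U => ((a z : U) : Ω)) (Subtype.ext (hψe y).symm)
  exact InvolvesS4.involves_of_injective
    (((MulAut.congr e).toMonoidHom.comp (F.autGroup U).subtype).codRestrict (F.autGroup R) fun a => hmem a a.2)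
    (fun a b hab => Subtype.ext ((MulAut.congr e).injective (congrArg Subtype.val hab))) hi

/-- A system whose centric models do not involve `Sym(4)` has no `Sym(3)` in its automisers. -/
theorem threeFree_of_sectionFree (hS : IsPGroup 2 S) (hF : F.IsSaturated 2)
    (hfree : F.IsSectionFree 2 (Equiv.Perm (Fin 4))) : ThreeFree F := by
  haveI : Fact (Nat.Prime 2) := ⟨Nat.prime_two⟩
  intro U hU hU3
  obtain ⟨R, hUR, hR⟩ := exists_isFullyNormalized F hU
  have hR3 := involves_autGroup_of_isConj hUR hU3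
  obtain ⟨hRc, -, hrec⟩ := fullyNormalized_props hS hF hR
  haveI := finite_sub hR.1
  set Q := R ⊔ centralizerIn S R with hQdef
  have hQS : Q ≤ S := sup_le hR.1 (centralizerIn_le R)
  haveI := finite_sub hQS
  have hQc : F.IsCentric Q := by
    refine ⟨hQS, ?_⟩
    rintro _ ⟨χ, hχ, rfl⟩
    set R' := (R.subgroupOf Q).map χ with hR'
    have hR'le : R' ≤ χ.range := by rintro _ ⟨x, -, rfl⟩; exact ⟨x, rfl⟩
    obtain ⟨ρ, hρ, eρ⟩ := exists_restrict hχ (le_sup_left : R ≤ Q)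
    have hconj : F.IsConj R R' := ⟨ρ, hρ, by
      rw [hR', map_subgroupOf_eq_range (le_sup_left : R ≤ Q)]
      congr 1; ext x; exact eρ x⟩
    haveI : Finite (centralizerIn S R') := finite_sub (centralizerIn_le R')
    haveI : Finite (centralizerIn S R) := finite_sub (centralizerIn_le R)
    let f : centralizerIn S R → centralizerIn S R' := fun c =>
      ⟨χ ⟨c, Subgroup.mem_sup_right c.2⟩, (apply_mem_centralizerIn_iff hχ le_sup_left rfl _).2 c.2⟩
    have hf : Function.Injective f := fun a b hab =>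
      Subtype.ext (congrArg (fun z : Q => (z : Ω)) (F.injective_of_mem hχ (congrArg Subtype.val hab)))
    have hsur := (hf.bijective_of_nat_card_le (hRc.2 R' hconj)).2
    intro x hx
    obtain ⟨c, hc⟩ := hsur ⟨x, centralizerIn_anti hR'le hx⟩
    exact ⟨_, congrArg Subtype.val hc⟩
  have hQ3 : Cfsg.Involves (Equiv.Perm (Fin 3)) ↥(F.autGroup Q) := by
    let A : Subgroup (↥(F.autGroup Q) × ↥(F.autGroup R)) :=
      { carrier := {q | ∀ x : R, ((q.1 : MulAut Q) (Subgroup.inclusion le_sup_left x) : Q) =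
          Subgroup.inclusion le_sup_left ((q.2 : MulAut R) x)}
        one_mem' := fun x => rfl
        mul_mem' := fun {a b} ha hb x => by
          show (a.1 : MulAut Q) ((b.1 : MulAut Q) _) = _
          rw [hb x, ha]; rfl
        inv_mem' := fun {a} ha x => by
          show (a.1 : MulAut Q)⁻¹ _ = Subgroup.inclusion le_sup_left ((a.2 : MulAut R)⁻¹ x)
          apply (a.1 : MulAut Q).injective
          rw [MulAut.apply_inv_self, ha, MulAut.apply_inv_self] }
    refine InvolvesS4.involves_of_injective ((MonoidHom.fst _ _).comp A.subtype) ?_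
      (InvolvesS4.involves_of_surjective ((MonoidHom.snd _ _).comp A.subtype) ?_ hR3)
    · rintro ⟨⟨a, b⟩, hab⟩ ⟨⟨a', b'⟩, hab'⟩ (e : a = a')
      subst e
      exact Subtype.ext (Prod.ext rfl (Subtype.ext (MulEquiv.ext fun x =>
        Subgroup.inclusion_injective _ ((hab x).symm.trans (hab' x)))))
    · intro β
      obtain ⟨α, hα, hαr, hαe⟩ := exists_hom_of_aut hR.1 β.2
      have hαR : ∀ x, α x ∈ R := fun x => hαr.le ⟨x, rfl⟩
      obtain ⟨ψ₀, hψ₀, e₀⟩ := hrec.2 R α hα hαr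
      obtain ⟨ψ, hψ, eψ⟩ := exists_restrict hψ₀
        (sup_le (le_extender hR.1 (apply_mem hα)) (centralizerIn_le_extender R α) : Q ≤ extender S R α)
      have eR : ∀ x : R, ψ ⟨x, Subgroup.mem_sup_left x.2⟩ = α x := fun x => by rw [eψ]; exact e₀ _ x.2 _
      have hmap : (R.subgroupOf Q).map ψ = R := by
        rw [map_subgroupOf_eq_range (le_sup_left : R ≤ Q)]
        conv_rhs => rw [← hαr]
        congr 1; ext x; exact eR x
      have hle : Q ≤ (Q.comap ψ).map Q.subtype := by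
        refine sup_le (fun r hr => ⟨⟨r, Subgroup.mem_sup_left hr⟩, ?_, rfl⟩)
          (fun c hc => ⟨⟨c, Subgroup.mem_sup_right hc⟩, ?_, rfl⟩)
        · show ψ _ ∈ Q
          rw [eR ⟨r, hr⟩]; exact Subgroup.mem_sup_left (hαR _)
        · exact Subgroup.mem_sup_right ((apply_mem_centralizerIn_iff hψ le_sup_left hmap _).2 hc)
      have hm : ∀ x, ψ x ∈ Q := fun x => by
        obtain ⟨y, hy, hyx⟩ := hle x.2
        rw [show x = y from Subtype.ext hyx.symm]; exact hy
      have hrg := range_eq_of_mem hψ hm le_rfl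
      exact ⟨⟨(⟨homEquiv hψ hrg, homEquiv_mem_autGroup hψ hrg⟩, β),
        fun x => Subtype.ext ((eR x).trans (hαe x))⟩, rfl⟩
  obtain ⟨Q₁, hQQ₁, hQ₁⟩ := exists_isFullyNormalized F hQS
  have hQ₁c : F.IsCentric Q₁ := ⟨hQ₁.1, fun Q' hQ' => hQc.2 Q' (isConj_trans hQQ₁ hQ')⟩
  have h13 := involves_autGroup_of_isConj hQQ₁ hQ3
  obtain ⟨N, hN⟩ := exists_normalizerSystem F hQ₁.1
  haveI : Finite (normalizerIn S Q₁) := finite_sub (normalizerIn_le Q₁)
  haveI := finite_sub hQ₁.1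
  have hT : IsPGroup 2 (normalizerIn S Q₁) := isPGroup_of_le hS (normalizerIn_le Q₁)
  obtain ⟨L, _, ι, hM⟩ := FusionAlperin.Model.exists_model_of_constrained hT
    (Transfer.FusionLocal.isConstrained_normalizerSystem hS hF hQ₁ hQ₁c hN).2
  refine hfree Q₁ hQ₁ hQ₁c N hN L ι hM ?_
  obtain ⟨hfin, hreal, -, -⟩ := id hM
  haveI := hfin
  have hQT : Q₁ ≤ (normalizerIn S Q₁) := le_normalizerIn hQ₁.1
  set T₀ := (Q₁.subgroupOf (normalizerIn S Q₁)).map ι with hT₀
  refine (Cfsg.Agent.S2759.result).2 ⟨T₀,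
    ((isPGroup_of_le hS hQ₁.1).of_equiv (Subgroup.subgroupOfEquivOfLe hQT).symm).map ι, ?_⟩
  -- the automiser is a section of `N(T₀)/C(T₀)`
  set Nn := Subgroup.normalizer (T₀ : Set L) with hNn
  set Cn := (Subgroup.centralizer (T₀ : Set L)).subgroupOf Nn with hCn
  have hι : ∀ x : Q₁, ι ⟨x, hQT x.2⟩ ∈ T₀ := fun x =>
    Subgroup.mem_map_of_mem ι (Subgroup.mem_subgroupOf.2 x.2)
  let A : Subgroup (↥Nn × ↥(F.autGroup Q₁)) :=
    { carrier := {q | ∀ x : Q₁, ι ⟨((q.2 : MulAut Q₁) x : Q₁), hQT (SetLike.coe_mem _)⟩ =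
        (q.1 : L) * ι ⟨x, hQT x.2⟩ * (q.1 : L)⁻¹}
      one_mem' := fun x => by simp
      mul_mem' := fun {a b} ha hb x => by
        show ι ⟨(((a.2 : MulAut Q₁) ((b.2 : MulAut Q₁) x) : Q₁) : Ω), _⟩ =
          ((a.1 : L) * (b.1 : L)) * _ * ((a.1 : L) * (b.1 : L))⁻¹
        rw [ha, hb]; group
      inv_mem' := fun {a} ha x => by
        show ι ⟨(((a.2 : MulAut Q₁)⁻¹ x : Q₁) : Ω), _⟩ = (a.1 : L)⁻¹ * _ * (a.1 : L)⁻¹⁻¹
        have h := ha ((a.2 : MulAut Q₁)⁻¹ x)
        simp only [MulAut.apply_inv_self] at h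
        rw [h]; group }
  set π := QuotientGroup.mk' Cn with hπ
  let B := A.map (π.prodMap (MonoidHom.id ↥(F.autGroup Q₁)))
  refine InvolvesS4.involves_of_injective ((MonoidHom.fst _ _).comp B.subtype) ?_
    (InvolvesS4.involves_of_surjective ((MonoidHom.snd _ _).comp B.subtype) ?_ h13)
  · rintro ⟨_, ⟨n, a⟩, hna, rfl⟩ ⟨_, ⟨n', a'⟩, hna', rfl⟩ (e : π n = π n')
    have hc : (n : L)⁻¹ * n' ∈ Subgroup.centralizer (T₀ : Set L) :=
      Subgroup.mem_subgroupOf.1 (QuotientGroup.eq.1 e)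
    have : a = a' := Subtype.ext (MulEquiv.ext fun x => Subtype.ext (congrArg Subtype.val (hreal.1
      (show ι ⟨((a : MulAut Q₁) x : Q₁), hQT (SetLike.coe_mem _)⟩ =
          ι ⟨((a' : MulAut Q₁) x : Q₁), hQT (SetLike.coe_mem _)⟩ from by
        rw [hna x, hna' x]
        calc (n : L) * ι ⟨x, hQT x.2⟩ * (n : L)⁻¹
            = (n : L) * (ι ⟨x, hQT x.2⟩ * ((n : L)⁻¹ * n')) * (n' : L)⁻¹ := by group
          _ = (n : L) * (((n : L)⁻¹ * n') * ι ⟨x, hQT x.2⟩) * (n' : L)⁻¹ := by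
              rw [Subgroup.mem_centralizer_iff.1 hc _ (hι x)]
          _ = _ := by group)) :))
    subst this
    exact Subtype.ext (Prod.ext e rfl)
  · intro β
    obtain ⟨α, hα, hαr, hαe⟩ := exists_hom_of_aut hQ₁.1 β.2
    have hαQ : ∀ x, α x ∈ Q₁ := fun x => hαr.le ⟨x, rfl⟩
    have hαN : α ∈ N.Hom Q₁ := by
      obtain ⟨α', hα', eb⟩ := exists_restrict hα (sup_le le_rfl le_rfl : Q₁ ⊔ Q₁ ≤ Q₁)
      refine (hN Q₁).ge ⟨hα, hQT, fun x => hQT (hαQ x), α', hα', fun x => eb _, ?_⟩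
      exact map_subgroupOf_eq_of_mapsTo hα' le_sup_right fun y hy => by rw [eb]; exact hαQ _
    obtain ⟨g, hg⟩ := (hreal.2 Q₁ hQT α (fun x => hQT (hαQ x))).1 hαN
    have hgN : g ∈ Nn := by
      refine mem_normalizer_of_conj_mem ?_
      rintro _ ⟨x, hx, rfl⟩
      rw [show g * ι x * g⁻¹ = ι ⟨α ⟨x, Subgroup.mem_subgroupOf.1 hx⟩, hQT (hαQ _)⟩ from
        (hg ⟨x, Subgroup.mem_subgroupOf.1 hx⟩).symm]
      exact hι ⟨_, hαQ _⟩
    refine ⟨⟨_, (⟨g, hgN⟩, β), fun x => ?_, rfl⟩, rfl⟩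
    refine Eq.trans (congrArg ι (Subtype.ext ?_)) (hg x)
    exact (hαe x).symm

end Cfsg.Agent.Lib.Stellmacher18
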