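import Cfsg.Agent.Lib.Stellmacher18.Main
import Cfsg.Agent.Lib.Stellmacher18.SectionFree
import Cfsg.Agent.Lib.FusionP3.GT.Family
import Cfsg.Agent.Lib.ZJ.AbelianJ
import Cfsg.Agent.S0664
import Cfsg.Agent.S2761

/-!
# The statement S5282 modulo `SThreeFreeSimple`

`Qd(p)`-free saturated systems are constrained, hence realisable, and solvable.
Owner: helper18.
-/

set_option autoImplicit false
set_option linter.style.haveILetI false
set_option linter.unusedSectionVars false

namespace Cfsg.Agent.Lib.Stellmacher18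

open Cfsg Cfsg.FusionSystem Cfsg.Agent.Lib Cfsg.Agent.Lib.FS Cfsg.Agent.Lib.FS.Control

universe u

/-- `Z(J(Q))` as a functor. -/
def zjFun (Q : Type u) [Group Q] : Subgroup Q := Cfsg.centerThompsonAOf (⊤ : Subgroup Q)

theorem wOf_zjFun {Ω : Type u} [Group Ω] (S : Subgroup Ω) : wOf zjFun S = Cfsg.centerThompsonAOf S := by
  rw [wOf, zjFun, ZJ.map_centerThompsonAOf S.subtype S.subtype_injective, ← MonoidHom.range_eq_map,
    Subgroup.range_subtype]

theorem isConstrained_odd {p : ℕ} [Fact p.Prime] (hp : p ≠ 2) {Ω : Type u} [Group Ω] {S : Subgroup Ω}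
    [Finite S] (hS : IsPGroup p S) {F : FusionSystem S} (hF : F.IsSaturated p)
    (hfree : ¬ SectionFree.QdPair F p) : F.IsConstrained p := by
  refine isConstrained_of_step (fun _ _ _ G => ¬ SectionFree.QdPair G p)
    (fun _ _ _ _ _ _ hTS hsub h hq => h (hq.of_sub hTS hsub))
    (fun _ _ _ _ _ _ _ _ _ _ _ hfac h hq => h (hq.of_factor hfac)) ?_ hS hF hfree
  intro Ω _ S _ F hS hF hfree hne _
  have hW1 : ∀ (Q : Type u) [Group Q] [Finite Q], IsPGroup p Q → Nontrivial Q → zjFun Q ≠ ⊥ := by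
    intro Q _ _ hQ hn
    exact FusionP3.GT.centerThompsonAOf_ne_bot (S := (⊤ : Subgroup Q)) (hQ.to_subgroup _) le_rfl
      ((Subgroup.nontrivial_iff_ne_bot _).1 (by
        obtain ⟨a, b, hab⟩ := hn.exists_pair_ne
        exact ⟨⟨⟨a, trivial⟩, ⟨b, trivial⟩, fun e => hab (congrArg Subtype.val e)⟩⟩))
  have hW2 : ∀ (Q R : Type u) [Group Q] [Group R] [Finite Q], IsPGroup p Q → ∀ φ : Q ≃* R,
      (zjFun Q).map φ.toMonoidHom = zjFun R := by
    intro Q R _ _ _ _ φ
    rw [zjFun, zjFun, ZJ.map_centerThompsonAOf φ.toMonoidHom φ.injective,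
      Subgroup.map_top_of_surjective φ.toMonoidHom φ.surjective]
  intro hcore
  have hn := wOf_isNormal hp hW1 hW2 (fun L _ _ P hc hinv => by
    rw [wOf_zjFun]
    exact S0664.result hp hinv (hc.le.trans inf_le_left) P) _ _ F rfl rfl hS hF hfree
  exact wOf_ne_bot hW1 hS hne (le_bot_iff.1 (hcore ▸ le_core_of_isNormal hn))

/-- A class of constrained systems closed under factors consists of solvable systems. -/
theorem isSolvableSystem_of_factor {p : ℕ} [Fact p.Prime] {Ω : Type u} [Group Ω] {S : Subgroup Ω}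
    [Finite S] (hS : IsPGroup p S) {F : FusionSystem S} (hF : F.IsSaturated p)
    (h : ∀ (R : Subgroup Ω) [(R.subgroupOf S).Normal]
      (E : FusionSystem (⊤ : Subgroup (S ⧸ R.subgroupOf S))),
      F.IsFactorSystem R (QuotientGroup.mk' (R.subgroupOf S)) E → E.IsSaturated p →
        IsPGroup p (⊤ : Subgroup (S ⧸ R.subgroupOf S)) → E.IsConstrained p) :
    F.IsSolvableSystem := by
  intro R hR hne _ E hE
  refine core_ne_bot_of_constrained (h R E hE (factor_isSaturated hS hF hR hE)
    (isPGroup_image hS hE.2.2.1)) fun e => hne (le_antisymm hR.1 fun s hs => ?_)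
  refine Subgroup.mem_subgroupOf.1 ((QuotientGroup.eq_one_iff (⟨s, hs⟩ : S)).1 ?_)
  exact Subgroup.mem_bot.1 (e ▸ Subgroup.mem_top _)

theorem isRealizable_of_constrained {p : ℕ} [Fact p.Prime] {Ω : Type u} [Group Ω] {S : Subgroup Ω}
    [Finite S] (hS : IsPGroup p S) {F : FusionSystem S} (hF : F.IsConstrained p) : F.IsRealizable p := by
  obtain ⟨G, hG, ι, hM⟩ := FusionAlperin.Model.exists_model_of_constrained hS hF
  exact ⟨G, hG, hM.1, ι, hM.2.1, hM.2.2.1⟩

/-- Statement S5282 from the classification of simple groups without a section `Sym(3)`. -/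
theorem row5282 (hK : SThreeFree21.SThreeFreeSimple.{u}) {Ω : Type u} [Group Ω] {S : Subgroup Ω}
    [Finite S] (p : ℕ) [Fact p.Prime] (hS : IsPGroup p S) (F : Cfsg.FusionSystem S) (hF : F.IsSaturated p)
    (hfree : F.IsSectionFree p ↥(Cfsg.qd p)) : F.IsRealizable p ∧ F.IsSolvableSystem := by
  rcases eq_or_ne p 2 with rfl | hp
  · have h4 : F.IsSectionFree 2 (Equiv.Perm (Fin 4)) := fun Q h1 h2 N h3 L _ ι h5 h6 => by
      obtain ⟨e⟩ := Cfsg.Agent.S2761.result
      obtain ⟨K, φ, hφ⟩ := Transfer.InvolvesS4.exists_hom_of_involves h6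
      exact hfree Q h1 h2 N h3 L ι h5 (Transfer.InvolvesS4.involves_of_hom K
        (e.symm.toMonoidHom.comp φ) (e.symm.surjective.comp hφ))
    have h3 := threeFree_of_sectionFree hS hF h4
    exact ⟨isRealizable_of_constrained hS (isConstrained hK hS hF h3),
      isSolvableSystem_of_factor hS hF fun R _ E hE hEs hEp => isConstrained hK hEp hEs (h3.of_factor hE)⟩
  · have hq := SectionFree.not_qdPair hp hS hF hfree
    exact ⟨isRealizable_of_constrained hS (isConstrained_odd hp hS hF hq),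
      isSolvableSystem_of_factor hS hF fun R _ E hE hEs hEp =>
        isConstrained_odd hp hEp hEs fun h => hq (h.of_factor hE)⟩

end Cfsg.Agent.Lib.Stellmacher18
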