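import Cfsg.Agent.Lib.SThreeFree21.Statement
import Cfsg.Agent.Lib.Goldschmidt92.Main
import Cfsg.Agent.Lib.Quadratic.QdSection
import Cfsg.Agent.Lib.BenderConsumers23.Simple
import Cfsg.Agent.Lib.BenderSuzuki.Main
import Cfsg.Agent.Lib.BenderOne.Final
import Cfsg.Agent.Lib.Walter.Main
import Cfsg.Agent.Lib.GorensteinWalter.Main
import Cfsg.Agent.Lib.OddOrder.FeitThompson
import Cfsg.Agent.Lib.SFourFree.Locals
import Cfsg.Agent.Lib.Cores.Basic
import Cfsg.Agent.S2796

/-!
# Simple groups without a section `Sym(3)` from Goldschmidt's theorem and Walter's theorem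

In a minimal counterexample the theorem on groups without a section `Sym(4)` (S2796) gives a
strongly closed abelian subgroup of a Sylow `2`-subgroup; Goldschmidt's theorem (the statement of
S1169) then leaves an abelian Sylow `2`-subgroup or a strongly embedded subgroup, and of the groups
of Walter and of Bender only `Sz(q)` and `PSL₂(3 ^ (2 n + 1))` have no section `Sym(3)`.

Owner: helper18.
-/

set_option autoImplicit false
set_option linter.style.haveILetI false
set_option linter.unusedSectionVars false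

namespace Cfsg.Agent.Lib.Stellmacher18

open Subgroup

universe u

/-- The statement of S1169. -/
def PropGoldschmidt : Prop :=
  ∀ (G : Type u) [Group G] [Finite G] [IsSimpleGroup G] (S : Sylow 2 G) (A : Subgroup G),
    A ≠ ⊥ → IsMulCommutative A → Cfsg.IsStronglyClosed A (S : Subgroup G) →
      IsMulCommutative (S : Subgroup G) ∨ ∃ H : Subgroup G, Cfsg.IsStronglyEmbedded H

theorem involves_S3_perm_four : Cfsg.Involves (Equiv.Perm (Fin 3)) (Equiv.Perm (Fin 4)) := by
  refine Goldschmidt92.involves_of_injective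
    (Equiv.Perm.viaEmbeddingHom (Fin.castSuccEmb (n := 3))) ?_
  exact Equiv.Perm.viaEmbeddingHom_injective _

/-- A group of Janko–Ree type has a section `Sym(3)`. -/
theorem involves_S3_jr (hZ : Walter.PropNoField.{u}) (hO : Walter.PropOrder.{u})
    {G : Type u} [Group G] [Finite G] (h : Walter.IsJR G) :
    Cfsg.Involves (Equiv.Perm (Fin 3)) G := by
  haveI : Fact (Nat.Prime 2) := ⟨Nat.prime_two⟩
  haveI := h.simple
  by_contra hno
  obtain ⟨S⟩ : Nonempty (Sylow 2 G) := inferInstance
  haveI : Nontrivial G := (inferInstance : IsSimpleGroup G).toNontrivial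
  obtain ⟨t, ht⟩ := exists_prime_orderOf_dvd_card' (G := G) 2
    ((show 2 ∣ 8 by norm_num).trans (h.card_sylow S ▸ S.1.card_subgroup_dvd_card))
  obtain ⟨E, E₀, hE⟩ := h.centralizer t ht
  obtain rfl := hZ G h t ht E E₀ hE
  obtain ⟨F, _, _, hq, h5, ⟨e⟩⟩ := hE.2.2.2.2.1
  have hnoE : ¬ Cfsg.Involves (Equiv.Perm (Fin 3))
      (Matrix.ProjectiveSpecialLinearGroup (Fin 2) F) := fun hi =>
    hno (Quadratic.involves_of_subgroup (Goldschmidt92.involves_congr e.symm hi))
  obtain ⟨n, hn⟩ := Goldschmidt92.odd_pow_three_of_noS3 hq hnoE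
  have hn1 : 1 ≤ n := by
    by_contra h0
    obtain rfl : n = 0 := by omega
    norm_num at hn
    omega
  refine hno (Goldschmidt92.involves_S3_ree hO ⟨h.simple, ?_, t, E, n, hn1, ht, ?_, hE.1,
    F, inferInstance, inferInstance, hn, ⟨e⟩⟩)
  · intro hc
    have hc' : centralizer ({t} : Set G) = ⊤ :=
      eq_top_iff.2 fun g _ => mem_centralizer_singleton_iff.2 (hc.is_comm.comm g t)
    have htc : t ∈ center G := mem_center_iff.2 fun g => hc.is_comm.comm g t
    have hS8 := h.card_sylow S
    have hsol : Nat.card G = 2 := by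
      have hz : center G = ⊤ := (inferInstance : (center G).Normal).eq_bot_or_eq_top.resolve_left
        fun e0 => by
          rw [e0, mem_bot] at htc
          rw [htc, orderOf_one] at ht
          norm_num at ht
      have := h.simple
      haveI : (zpowers t).Normal := ⟨fun a ha g => by
        rw [show g * a * g⁻¹ = a by rw [hc.is_comm.comm g a, mul_inv_cancel_right]]; exact ha⟩
      rcases (inferInstance : (zpowers t).Normal).eq_bot_or_eq_top with e0 | e0
      · rw [zpowers_eq_bot] at e0
        rw [e0, orderOf_one] at ht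
        norm_num at ht
      · rw [← card_top (G := G), ← e0, Nat.card_zpowers, ht]
    have hle := Nat.le_of_dvd Nat.card_pos (S.1.card_subgroup_dvd_card)
    omega
  · -- an abelian Sylow subgroup through `t` lies in its centraliser
    obtain ⟨T, hT⟩ := (IsPGroup.of_card (n := 1) (p := 2) (G := ↥(zpowers t))
      (by rw [Nat.card_zpowers, ht, pow_one])).exists_le_sylow
    have hle : (T : Subgroup G) ≤ centralizer ({t} : Set G) := fun s hs =>
      mem_centralizer_singleton_iff.2
        (congrArg Subtype.val ((h.elementary T).1.is_comm.comm ⟨s, hs⟩ ⟨t, hT (mem_zpowers t)⟩))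
    have hodd : ¬ 2 ∣ (T : Subgroup G).index := T.not_dvd_index
    exact Nat.not_even_iff_odd.1 fun he =>
      hodd ((even_iff_two_dvd.1 he).trans (index_dvd_of_le hle))

/-- The step of the induction. -/
theorem step (hG : PropGoldschmidt.{u}) (hZ : Walter.PropNoField.{u}) (hO : Walter.PropOrder.{u})
    {G : Type u} [Group G] [Finite G] [IsSimpleGroup G] (hna : ∃ a b : G, a * b ≠ b * a)
    (hno : ¬ Cfsg.Involves (Equiv.Perm (Fin 3)) G)
    (ih : ∀ (X : Type u) [Group X] [Finite X], Nat.card X < Nat.card G → IsSimpleGroup X →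
      (∃ a b : X, a * b ≠ b * a) → ¬ Cfsg.Involves (Equiv.Perm (Fin 3)) X →
        Cfsg.IsSuzukiOrPSL2OddPowerThree X) :
    Cfsg.IsSuzukiOrPSL2OddPowerThree G := by
  haveI : Fact (Nat.Prime 2) := ⟨Nat.prime_two⟩
  have hnc : ¬ IsMulCommutative G := fun hc => by
    obtain ⟨a, b, hab⟩ := hna
    exact hab (hc.is_comm.comm a b)
  have hns : ¬ Group.IsSolvable G := fun hs => by
    obtain ⟨a, b, hab⟩ := hna
    exact hab (IsSimpleGroup.comm_iff_isSolvable.2 hs a b)
  have h2 : 2 ∣ Nat.card G := by
    by_contra hne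
    exact hns (OddOrder.FeitThompson.isSolvable_of_odd_card
      (Nat.odd_iff.2 (Nat.two_dvd_ne_zero.1 hne)))
  have hfour : ¬ Cfsg.Involves (Equiv.Perm (Fin 4)) G := fun h =>
    hno (Quadratic.involves_trans involves_S3_perm_four h)
  have hcore : Cfsg.pCore 2 G = ⊥ :=
    (inferInstance : (Cfsg.pCore 2 G).Normal).eq_bot_or_eq_top.resolve_right fun et => hns (by
      have hG2 : IsPGroup 2 G := Cores.pCore_eq_top_iff.1 et
      haveI := hG2.isNilpotent
      infer_instance)
  have hsec : ∀ (K R : Subgroup G) [hR : (R.subgroupOf K).Normal],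
      Subgroup.centralizer (Cfsg.pCore 2 (K ⧸ R.subgroupOf K) : Set (K ⧸ R.subgroupOf K)) ≤
        Cfsg.pCore 2 (K ⧸ R.subgroupOf K) →
      Cfsg.IsCompositionKGroupWith Cfsg.IsSuzukiOrPSL2OddPowerThree (K ⧸ R.subgroupOf K) := by
    intro K R hR hc H _ N _ hsimple hnH
    by_cases hK : K = ⊤
    · subst hK
      exfalso
      haveI : IsSimpleGroup ↥(⊤ : Subgroup G) := Subgroup.topEquiv.isSimpleGroup
      haveI := hsimple
      rcases hR.eq_bot_or_eq_top with hb | htop
      · let e : G ≃* (↥(⊤ : Subgroup G) ⧸ R.subgroupOf ⊤) :=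
          Subgroup.topEquiv.symm.trans (QuotientGroup.quotientBot.symm.trans
            (QuotientGroup.quotientMulEquivOfEq hb.symm))
        rw [← Cores.map_pCore_equiv e, hcore, Subgroup.map_bot] at hc
        refine hnc ⟨⟨fun a b => ?_⟩⟩
        have : ∀ x : G, x = 1 := fun x => e.injective (by
          rw [map_one]
          exact Subgroup.mem_bot.1 (hc (Subgroup.mem_centralizer_iff.2 fun y hy => by
            rw [Subgroup.mem_bot.1 hy, one_mul, mul_one])))
        rw [this a, this b]
      · haveI : Subsingleton (↥(⊤ : Subgroup G) ⧸ R.subgroupOf ⊤) := by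
          rw [htop]; exact QuotientGroup.subsingleton_quotient_top
        haveI : Subsingleton (H ⧸ N) := QuotientGroup.mk_surjective.subsingleton
        exact not_subsingleton (H ⧸ N) inferInstance
    · refine ih (H ⧸ N) ?_ hsimple ?_ fun hi => hno ?_
      · calc Nat.card (H ⧸ N) ≤ Nat.card H :=
              Nat.card_le_card_of_surjective _ (QuotientGroup.mk_surjective (s := N))
          _ ≤ Nat.card (K ⧸ R.subgroupOf K) := Subgroup.card_le_card_group H
          _ ≤ Nat.card K :=
              Nat.card_le_card_of_surjective _ (QuotientGroup.mk_surjective (s := R.subgroupOf K))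
          _ < Nat.card G := lt_of_le_of_ne (Subgroup.card_le_card_group K) fun e =>
              hK (Subgroup.eq_top_of_card_eq K e)
      · by_contra hcom
        push Not at hcom
        exact hnH ⟨⟨hcom⟩⟩
      · exact Quadratic.involves_of_subgroup (Quadratic.involves_of_map
          (QuotientGroup.mk' (R.subgroupOf K)) (QuotientGroup.mk'_surjective _)
          (Quadratic.involves_of_subgroup
            (Quadratic.involves_of_map (QuotientGroup.mk' N) (QuotientGroup.mk'_surjective N) hi)))
  -- the strongly closed abelian subgroup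
  obtain ⟨T⟩ := (inferInstance : Nonempty (Sylow 2 G))
  set N := Subgroup.normalizer (Cfsg.thompsonSubgroupOf 2 (T : Subgroup G) : Set G) with hN
  set Z := Cfsg.omegaOne 2 ((T : Subgroup G) ⊓ Subgroup.centralizer ((T : Subgroup G) : Set G))
  set A := (Subgroup.normalClosure ((Z.subgroupOf N : Subgroup ↥N) : Set ↥N)).map N.subtype with hA
  obtain ⟨-, hel, hsc, -⟩ := Cfsg.Agent.S2796.result hfour hsec T N rfl A hA
  have hTne : (T : Subgroup G) ≠ ⊥ := T.ne_bot_of_dvd_card h2
  have hZne : Z ≠ ⊥ := SFourFree.omegaCenterOf_ne_bot T.2 hTne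
  have hAne : A ≠ ⊥ := by
    obtain ⟨z, hzZ, hz1⟩ := Z.bot_or_exists_ne_one.resolve_left hZne
    intro e
    refine hz1 (Subgroup.mem_bot.1 (e ▸ ?_))
    have hzT : z ∈ (T : Subgroup G) := (PGroups.omegaOne_le 2 _ hzZ).1
    exact ⟨⟨z, PGroups.normalizer_le_normalizer_thompson (T : Subgroup G)
      (Subgroup.le_normalizer hzT)⟩, Subgroup.subset_normalClosure (Subgroup.mem_subgroupOf.2 hzZ), rfl⟩
  rcases hG G T A hAne hel.1 hsc with hab | ⟨H, hH⟩
  · -- Walter
    have habs : Walter.AbelianSylow G := fun S => by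
      haveI := hab
      refine ⟨⟨fun x y => (Sylow.equiv S T).injective ?_⟩⟩
      rw [map_mul, map_mul]
      exact mul_comm' _ _
    rcases Walter.propKnown BenderOne.propSplitFinal GorensteinWalter.propMainFinal G inferInstance
        hnc habs with ⟨m, F, _, _, hm, hF, ⟨e⟩⟩ | ⟨F, _, _, hq, -, ⟨e⟩⟩ | hJ
    · exact absurd (Goldschmidt92.involves_congr e.symm (Goldschmidt92.involves_S3_PSL
        (Goldschmidt92.three_ne_zero_of_char_two (n := m) (by omega) hF))) hno
    · obtain ⟨m, hm⟩ := Goldschmidt92.odd_pow_three_of_noS3 hq fun hi =>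
        hno (Goldschmidt92.involves_congr e.symm hi)
      exact Or.inr ⟨F, inferInstance, inferInstance, m, hm, ⟨e⟩⟩
    · exact absurd (involves_S3_jr hZ hO hJ) hno
  · -- Bender
    obtain ⟨hT, -⟩ := BenderConsumers23.simple_case BenderOne.propPartOneFinal
      BenderSuzuki.propMain hna hH
    rcases hT with ⟨F, _, _, m, hm, hF, ⟨e⟩⟩ | hSz | ⟨F, _, _, m, -, hF, ⟨e⟩⟩
    · exact absurd (Goldschmidt92.involves_congr e.symm (Goldschmidt92.involves_S3_PSL
        (Goldschmidt92.three_ne_zero_of_char_two (n := m) (by omega) hF))) hno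
    · exact Or.inl hSz
    · exact absurd (Goldschmidt92.involves_congr e.symm (Goldschmidt92.involves_S3_PSU hF)) hno

/-- Simple groups without a section `Sym(3)`, from Goldschmidt's theorem and the two theorems on
groups of Janko–Ree type. -/
theorem sThreeFreeSimple (hG : PropGoldschmidt.{u}) (hZ : Walter.PropNoField.{u})
    (hO : Walter.PropOrder.{u}) : SThreeFree21.SThreeFreeSimple.{u} := by
  suffices h : ∀ (n : ℕ) (G : Type u) [Group G] [Finite G], Nat.card G = n → IsSimpleGroup G →
      (∃ a b : G, a * b ≠ b * a) → ¬ Cfsg.Involves (Equiv.Perm (Fin 3)) G →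
        Cfsg.IsSuzukiOrPSL2OddPowerThree G from fun G _ _ => h (Nat.card G) G rfl
  intro n
  induction n using Nat.strong_induction_on with
  | _ n ih =>
    intro G _ _ hn hs hna hno
    haveI := hs
    exact step hG hZ hO hna hno fun X _ _ hX => ih (Nat.card X) (hn ▸ hX) X rfl

end Cfsg.Agent.Lib.Stellmacher18
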